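import Cfsg.Agent.Lib.KnownB.PSLAut.Main
import Cfsg.Prelude.Def_KGroupFacts

/-!
`Aut PSL_n(F)` modulo the inner-diagonal group, and `Out PSL_n(F)`.
-/

set_option autoImplicit false

namespace CfsgLib.KnownB.PSLAut

open Matrix

/-! ### The automorphism group of a finite field -/

section Gal

variable {F : Type*} [Field F] [Fintype F] {p f : ℕ} [Fact p.Prime]

theorem charP_of_card (hf : 1 ≤ f) (hF : Fintype.card F = p ^ f) : CharP F p := by
  obtain ⟨q, hq⟩ := CharP.exists F
  obtain ⟨k, hqp, hk⟩ := FiniteField.card F q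
  have h1 : q ∣ p ^ f := hF ▸ hk ▸ dvd_pow_self q k.ne_zero
  have : q = p := (Nat.prime_dvd_prime_iff_eq hqp (Fact.out : p.Prime)).1 (hqp.dvd_of_dvd_pow h1)
  exact this ▸ hq

/-- Ring automorphisms of a field of characteristic `p` are `ZMod p`-algebra automorphisms. -/
def galEquiv [Algebra (ZMod p) F] : (F ≃+* F) ≃* (F ≃ₐ[ZMod p] F) where
  toFun σ := AlgEquiv.ofRingEquiv (f := σ) fun x => by
    exact RingHom.congr_fun (RingHom.ext_zmod ((σ : F →+* F).comp (algebraMap (ZMod p) F)) (algebraMap (ZMod p) F)) x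
  invFun e := e.toRingEquiv
  left_inv σ := by ext x; rfl
  right_inv e := by ext x; rfl
  map_mul' σ τ := by ext x; rfl

theorem isCyclic_gal (hf : 1 ≤ f) (hF : Fintype.card F = p ^ f) : IsCyclic (F ≃+* F) := by
  haveI := charP_of_card hf hF
  let := ZMod.algebra F p
  exact isCyclic_of_surjective (galEquiv (p := p)).symm.toMonoidHom (galEquiv (p := p)).symm.surjective

theorem card_gal (hf : 1 ≤ f) (hF : Fintype.card F = p ^ f) : Nat.card (F ≃+* F) = f := by
  haveI := charP_of_card hf hF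
  let := ZMod.algebra F p
  rw [Nat.card_congr (galEquiv (p := p)).toEquiv, IsGalois.card_aut_eq_finrank]
  have h := Module.card_eq_pow_finrank (K := ZMod p) (V := F)
  rw [hF, ZMod.card] at h
  exact (Nat.pow_right_injective (Fact.out : p.Prime).two_le h).symm

end Gal

variable {n : ℕ} {F : Type*} [Field F]

local notation "PSLn" => Matrix.ProjectiveSpecialLinearGroup (Fin n) F
local notation "DD" => MonoidHom.range (δ : GL (Fin n) F →* MulAut (Matrix.ProjectiveSpecialLinearGroup (Fin n) F))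

/-- The inner-diagonal group is normal. -/
theorem range_δ_normal [Finite F] (hn : 2 ≤ n) : (DD).Normal := by
  refine ⟨fun a ha b => ?_⟩
  obtain ⟨h, rfl⟩ := ha
  obtain ⟨g, σ, e, he, rfl⟩ := decomp hn b
  obtain ⟨h', hh'⟩ : ∃ h', e * δ h * e⁻¹ = δ h' := by
    rcases he with rfl | ⟨rfl, -⟩
    · exact ⟨h, by rw [one_mul, inv_one, mul_one]⟩
    · exact ⟨itGL h, by rw [it_δ, mul_inv_cancel_right]⟩
  refine ⟨g * Matrix.GeneralLinearGroup.map (σ : F →+* F) h' * g⁻¹, ?_⟩
  calc δ (g * Matrix.GeneralLinearGroup.map (σ : F →+* F) h' * g⁻¹)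
      = δ g * (δ (Matrix.GeneralLinearGroup.map (σ : F →+* F) h') * fld σ) * (fld σ)⁻¹ * (δ g)⁻¹ := by
        rw [map_mul, map_mul, map_inv]; group
    _ = δ g * (fld σ * δ h') * (fld σ)⁻¹ * (δ g)⁻¹ := by rw [fld_δ]
    _ = δ g * fld σ * e * δ h * (δ g * fld σ * e)⁻¹ := by rw [← hh']; group

/-- `ε ↦ it ^ ε`. -/
noncomputable def itHom : Multiplicative (ZMod 2) →* MulAut PSLn where
  toFun x := if x = 1 then 1 else it
  map_one' := if_pos rfl
  map_mul' := by
    have h : ∀ x : Multiplicative (ZMod 2), x = 1 ∨ x = Multiplicative.ofAdd 1 := by decide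
    intro x y
    rcases h x with rfl | rfl <;> rcases h y with rfl | rfl
    · simp
    · simp
    · simp
    · rw [show (Multiplicative.ofAdd (1 : ZMod 2) * Multiplicative.ofAdd 1) = 1 by decide, if_pos rfl,
        if_neg (by decide), it_mul_self]

theorem itHom_cases (x : Multiplicative (ZMod 2)) :
    (x = 1 ∧ (itHom x : MulAut PSLn) = 1) ∨ (x ≠ 1 ∧ (itHom x : MulAut PSLn) = it) := by
  by_cases hx : x = 1
  · exact Or.inl ⟨hx, if_pos hx⟩
  · exact Or.inr ⟨hx, if_neg hx⟩

/-- The field and graph automorphisms. -/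
noncomputable def Θ : (F ≃+* F) × Multiplicative (ZMod 2) →* MulAut PSLn :=
  MonoidHom.noncommCoprod fld itHom fun σ x => by
    rcases itHom_cases (n := n) (F := F) x with ⟨-, h⟩ | ⟨-, h⟩ <;> rw [h]
    · exact Commute.one_right _
    · exact (it_fld σ).symm

theorem Θ_apply (σ : F ≃+* F) (x : Multiplicative (ZMod 2)) : (Θ (σ, x) : MulAut PSLn) = fld σ * itHom x := rfl

theorem fld_mem_range (hn : 2 ≤ n) {σ : F ≃+* F} (h : (fld σ : MulAut PSLn) ∈ DD) : σ = 1 := by
  obtain ⟨g, hg⟩ := h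
  exact (δ_fld_eq_one hn (g := g⁻¹) (σ := σ) (by rw [map_inv, hg, inv_mul_cancel])).2

/-- A projection of a group onto a complement of a normal subgroup. -/
theorem exists_proj {G E : Type*} [Group G] [Group E] (D : Subgroup G) [D.Normal] (θ : E →* G)
    (hsurj : ∀ a : G, ∃ d ∈ D, ∃ x, a = d * θ x) (hinj : ∀ x, θ x ∈ D → x = 1) :
    ∃ π : G →* E, Function.Surjective π ∧ π.ker = D := by
  have hb : Function.Bijective ((QuotientGroup.mk' D).comp θ) := by
    refine ⟨(injective_iff_map_eq_one _).2 fun x hx => hinj x ((QuotientGroup.eq_one_iff _).1 hx), fun a => ?_⟩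
    induction a using QuotientGroup.induction_on with
    | H a =>
      obtain ⟨d, hd, x, rfl⟩ := hsurj a
      refine ⟨x, ?_⟩
      show ((θ x : G) : G ⧸ D) = ((d * θ x : G) : G ⧸ D)
      rw [QuotientGroup.mk_mul, (QuotientGroup.eq_one_iff d).2 hd, one_mul]
  let e := MulEquiv.ofBijective _ hb
  refine ⟨e.symm.toMonoidHom.comp (QuotientGroup.mk' D), e.symm.surjective.comp (QuotientGroup.mk'_surjective D), ?_⟩
  ext a
  simp [MonoidHom.mem_ker]

/-- `n ≥ 3`: `Aut → Gal × C₂` with kernel the inner-diagonal group. -/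
theorem exists_proj_big [Finite F] (hn : 3 ≤ n) :
    ∃ π : MulAut PSLn →* (F ≃+* F) × Multiplicative (ZMod 2), Function.Surjective π ∧ π.ker = DD := by
  haveI := range_δ_normal (F := F) (show 2 ≤ n by omega)
  refine exists_proj DD Θ (fun a => ?_) ?_
  · obtain ⟨g, σ, e, he, rfl⟩ := decomp (show 2 ≤ n by omega) a
    refine ⟨δ g, ⟨g, rfl⟩, ?_⟩
    rcases he with rfl | ⟨rfl, -⟩
    · exact ⟨(σ, 1), by rw [Θ_apply, map_one, mul_assoc]⟩
    · refine ⟨(σ, Multiplicative.ofAdd 1), ?_⟩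
      rw [Θ_apply, mul_assoc]
      rfl
  · rintro ⟨σ, x⟩ hx
    rw [Θ_apply] at hx
    rcases itHom_cases (n := n) (F := F) x with ⟨rfl, h⟩ | ⟨-, h⟩
    · rw [h, mul_one] at hx
      rw [fld_mem_range (by omega) hx]
      rfl
    · rw [h] at hx
      obtain ⟨g, hg⟩ := hx
      refine absurd ?_ (δ_fld_ne_it hn (Matrix.GeneralLinearGroup.map ((σ⁻¹ : F ≃+* F) : F →+* F) g) σ⁻¹)
      rw [← fld_δ, hg, ← mul_assoc, ← map_mul, inv_mul_cancel, map_one, one_mul]

/-- `n = 2`: `Aut → Gal` with kernel the inner-diagonal group. -/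
theorem exists_proj_two [Finite F] :
    ∃ π : MulAut (Matrix.ProjectiveSpecialLinearGroup (Fin 2) F) →* (F ≃+* F), Function.Surjective π ∧
      π.ker = (δ : GL (Fin 2) F →* MulAut (Matrix.ProjectiveSpecialLinearGroup (Fin 2) F)).range := by
  haveI := range_δ_normal (F := F) (n := 2) le_rfl
  refine exists_proj _ fld (fun a => ?_) fun σ hσ => fld_mem_range le_rfl hσ
  obtain ⟨g, σ, e, he, rfl⟩ := decomp le_rfl a
  refine ⟨δ g, ⟨g, rfl⟩, σ, ?_⟩
  rcases he with rfl | ⟨-, h⟩
  · rw [mul_one]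
  · omega

theorem card_range_δ (hn : 2 ≤ n) : Nat.card (DD) = Nat.card (Matrix.ProjGenLinGroup (Fin n) F) := by
  rw [← Subgroup.index_ker, ker_δ hn]
  rfl

theorem card_aut_big [Finite F] (hn : 3 ≤ n) :
    Nat.card (MulAut PSLn) = 2 * Nat.card (F ≃+* F) * Nat.card (Matrix.ProjGenLinGroup (Fin n) F) := by
  obtain ⟨π, hπ, hk⟩ := exists_proj_big (F := F) hn
  rw [← Subgroup.index_mul_card π.ker, Subgroup.index_ker, MonoidHom.range_eq_top.2 hπ, Subgroup.card_top, hk,
    card_range_δ (by omega), Nat.card_prod, Nat.card_congr (Multiplicative.toAdd (α := ZMod 2)), Nat.card_zmod]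
  ring

theorem card_aut_two [Finite F] :
    Nat.card (MulAut (Matrix.ProjectiveSpecialLinearGroup (Fin 2) F)) =
      Nat.card (F ≃+* F) * Nat.card (Matrix.ProjGenLinGroup (Fin 2) F) := by
  obtain ⟨π, hπ, hk⟩ := exists_proj_two (F := F)
  rw [← Subgroup.index_mul_card π.ker, Subgroup.index_ker, MonoidHom.range_eq_top.2 hπ, Subgroup.card_top, hk,
    card_range_δ le_rfl]

/-- An inner-diagonal automorphism is inner iff the determinant of the matrix is an `n`-th power. -/
theorem δ_mem_inn_iff (hn : 2 ≤ n) (g : GL (Fin n) F) :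
    (δ g : MulAut PSLn) ∈ Cfsg.Inn PSLn ↔ Matrix.GeneralLinearGroup.det g ∈ (powMonoidHom n : Fˣ →* Fˣ).range := by
  rw [inn_eq]
  constructor
  · rintro ⟨s, hs⟩
    rw [MonoidHom.comp_apply] at hs
    have h : (Matrix.SpecialLinearGroup.toGL s)⁻¹ * g ∈ (δ : GL (Fin n) F →* MulAut PSLn).ker := by
      rw [MonoidHom.mem_ker, map_mul, map_inv, hs, inv_mul_cancel]
    rw [ker_δ hn] at h
    obtain ⟨u, hu⟩ := (mem_center_iff_scalar _).1 h
    refine ⟨u, ?_⟩
    rw [eq_inv_mul_iff_mul_eq.1 hu |>.symm]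
    refine Units.ext ?_
    simp [Matrix.det_mul]
  · rintro ⟨u, hu⟩
    have hd : (Matrix.GeneralLinearGroup.det ((Matrix.GeneralLinearGroup.scalar (Fin n) u)⁻¹ * g)) = 1 := by
      rw [map_mul, map_inv, ← hu]
      refine inv_mul_eq_one.2 (Units.ext ?_)
      simp
    let s : Matrix.SpecialLinearGroup (Fin n) F :=
      ⟨(((Matrix.GeneralLinearGroup.scalar (Fin n) u)⁻¹ * g : GL (Fin n) F) : Matrix (Fin n) (Fin n) F),
        congrArg Units.val hd⟩
    refine ⟨s, ?_⟩
    rw [MonoidHom.comp_apply, show Matrix.SpecialLinearGroup.toGL s = (Matrix.GeneralLinearGroup.scalar (Fin n) u)⁻¹ * g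
      from Units.ext rfl, map_mul]
    have : Matrix.GeneralLinearGroup.scalar (Fin n) u ∈ (δ : GL (Fin n) F →* MulAut PSLn).ker := by
      rw [ker_δ hn]; exact (mem_center_iff_scalar _).2 ⟨u, rfl⟩
    rw [MonoidHom.mem_ker] at this
    rw [map_inv, this, inv_one, one_mul]

theorem det_surjective (hn : 1 ≤ n) :
    Function.Surjective (Matrix.GeneralLinearGroup.det : GL (Fin n) F →* Fˣ) := by
  intro u
  refine ⟨diagGL (Function.update (fun _ => (1 : Fˣ)) ⟨0, hn⟩ u), Units.ext ?_⟩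
  rw [Matrix.GeneralLinearGroup.val_det_apply]
  simp [diagGL, Matrix.det_diagonal, Function.update_apply, apply_ite Units.val]

/-- The structure of `Out` given a projection with kernel the inner-diagonal group. -/
theorem out_structure [Finite F] (hn : 2 ≤ n) {E : Type*} [Group E] (π : MulAut PSLn →* E)
    (hπ : Function.Surjective π) (hk : π.ker = DD) :
    ∃ φ : Cfsg.Out PSLn →* E, Function.Surjective φ ∧ IsCyclic φ.ker ∧
      Nat.card φ.ker = Nat.gcd n (Nat.card F - 1) := by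
  have hle : Cfsg.Inn PSLn ≤ π.ker := by
    rw [hk, inn_eq]
    rintro _ ⟨s, rfl⟩
    exact ⟨_, rfl⟩
  let φ := QuotientGroup.lift (Cfsg.Inn PSLn) π hle
  refine ⟨φ, fun e => ?_, ?_⟩
  · obtain ⟨a, rfl⟩ := hπ e
    exact ⟨QuotientGroup.mk a, rfl⟩
  let χ : GL (Fin n) F →* Cfsg.Out PSLn := (QuotientGroup.mk' _).comp δ
  have hχ : φ.ker = χ.range := by
    ext a
    induction a using QuotientGroup.induction_on with
    | H a =>
      constructor
      · intro ha
        have : a ∈ π.ker := ha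
        rw [hk] at this
        obtain ⟨g, rfl⟩ := this
        exact ⟨g, rfl⟩
      · rintro ⟨g, hg⟩
        rw [← hg]
        exact (hk.symm ▸ ⟨g, rfl⟩ : δ g ∈ π.ker)
  let R := (powMonoidHom n : Fˣ →* Fˣ).range
  let ψ : GL (Fin n) F →* Fˣ ⧸ R := (QuotientGroup.mk' R).comp Matrix.GeneralLinearGroup.det
  have hψ : Function.Surjective ψ := (QuotientGroup.mk'_surjective R).comp (det_surjective (by omega))
  have hker : χ.ker = ψ.ker := by
    ext g
    simp only [MonoidHom.mem_ker, χ, ψ, MonoidHom.comp_apply, QuotientGroup.mk'_apply, QuotientGroup.eq_one_iff]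
    exact δ_mem_inn_iff hn g
  let e : (Fˣ ⧸ R) ≃* φ.ker :=
    (QuotientGroup.quotientKerEquivOfSurjective ψ hψ).symm.trans
      ((QuotientGroup.quotientMulEquivOfEq hker.symm).trans
        ((QuotientGroup.quotientKerEquivRange χ).trans (MulEquiv.subgroupCongr hχ.symm)))
  haveI : IsCyclic (Fˣ ⧸ R) := isCyclic_of_surjective _ (QuotientGroup.mk'_surjective R)
  refine ⟨isCyclic_of_surjective e.toMonoidHom e.surjective, ?_⟩
  rw [← Nat.card_congr e.toEquiv, ← Subgroup.index_eq_card, IsCyclic.index_powMonoidHom_range, Nat.gcd_comm,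
    Nat.card_units]

end CfsgLib.KnownB.PSLAut
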