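import Cfsg.Agent.Lib.KnownB.PSLAut.Transvec

/-!
The Sylow `p`-subgroup of upper unitriangular matrices, its centre, and the images of root groups under automorphisms.
-/

set_option autoImplicit false

namespace CfsgLib.KnownB.PSLAut

open Matrix

variable {n : ℕ} {F : Type*} [Field F]

local notation "SLn" => Matrix.SpecialLinearGroup (Fin n) F
local notation "PSLn" => Matrix.ProjectiveSpecialLinearGroup (Fin n) F
local notation "Mn" => Matrix (Fin n) (Fin n) F
local notation "Vn" => (Fin n → F)

theorem blockTriangular_diag_mul {A B : Mn} (hA : A.BlockTriangular id) (hB : B.BlockTriangular id) (i : Fin n) :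
    (A * B) i i = A i i * B i i := by
  rw [Matrix.mul_apply, Finset.sum_eq_single i]
  · intro k _ hk
    rcases lt_or_gt_of_ne hk with h | h
    · rw [hA h, zero_mul]
    · rw [hB h, mul_zero]
  · simp

/-- Upper unitriangular matrices. -/
def U (n : ℕ) (F : Type*) [Field F] : Subgroup (Matrix.SpecialLinearGroup (Fin n) F) where
  carrier := {g | (g : Matrix (Fin n) (Fin n) F).BlockTriangular id ∧ ∀ i, (g : Matrix (Fin n) (Fin n) F) i i = 1}
  one_mem' := ⟨Matrix.blockTriangular_one, fun i => by simp⟩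
  mul_mem' {a b} ha hb := ⟨by rw [Matrix.SpecialLinearGroup.coe_mul]; exact ha.1.mul hb.1, fun i => by
    rw [Matrix.SpecialLinearGroup.coe_mul, blockTriangular_diag_mul ha.1 hb.1, ha.2, hb.2, mul_one]⟩
  inv_mem' {a} ha := by
    have e : ((a⁻¹ : Matrix.SpecialLinearGroup (Fin n) F) : Matrix (Fin n) (Fin n) F) =
        (a : Matrix (Fin n) (Fin n) F)⁻¹ := by
      refine (Matrix.inv_eq_right_inv ?_).symm
      rw [← Matrix.SpecialLinearGroup.coe_mul, mul_inv_cancel, Matrix.SpecialLinearGroup.coe_one]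
    have := Matrix.invertibleOfIsUnitDet (a : Matrix (Fin n) (Fin n) F) (by rw [a.2]; exact isUnit_one)
    have ht : ((a⁻¹ : Matrix.SpecialLinearGroup (Fin n) F) : Matrix (Fin n) (Fin n) F).BlockTriangular id := by
      rw [e]; exact Matrix.blockTriangular_inv_of_blockTriangular ha.1
    refine ⟨ht, fun i => ?_⟩
    have h1 := blockTriangular_diag_mul ha.1 ht i
    rw [← Matrix.SpecialLinearGroup.coe_mul, mul_inv_cancel, ha.2, one_mul] at h1
    simpa using h1.symm

theorem card_upper_pairs (n : ℕ) : Nat.card {p : Fin n × Fin n // p.1 < p.2} = n * (n - 1) / 2 := by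
  rw [← Finset.sum_range_id, ← Fin.sum_univ_eq_sum_range (fun i => i) n]
  rw [Nat.card_congr (show {p : Fin n × Fin n // p.1 < p.2} ≃ (Σ j : Fin n, {i : Fin n // i < j}) from
    { toFun := fun p => ⟨p.1.2, p.1.1, p.2⟩
      invFun := fun s => ⟨(s.2.1, s.1), s.2.2⟩
      left_inv := fun _ => rfl
      right_inv := fun _ => rfl }), Nat.card_sigma]
  refine Finset.sum_congr rfl fun j _ => ?_
  rw [Nat.card_congr (show {i : Fin n // i < j} ≃ Fin j from
    { toFun := fun i => ⟨i.1, i.2⟩
      invFun := fun i => ⟨⟨i, i.2.trans j.2⟩, i.2⟩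
      left_inv := fun _ => rfl
      right_inv := fun _ => rfl }), Nat.card_fin]

theorem card_U [Finite F] : Nat.card (U n F) = Nat.card F ^ (n * (n - 1) / 2) := by
  rw [← card_upper_pairs, ← Nat.card_fun]
  let M : ({p : Fin n × Fin n // p.1 < p.2} → F) → Mn := fun c => Matrix.of fun i j =>
    if i = j then 1 else if h : i < j then c ⟨(i, j), h⟩ else 0
  have hT : ∀ c, (M c).BlockTriangular id := fun c i j (h : j < i) => by
    simp [M, h.ne', not_lt.2 h.le]
  have hD : ∀ c i, M c i i = 1 := fun c i => by simp [M]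
  have hdet : ∀ c, (M c).det = 1 := fun c => by
    rw [Matrix.det_of_upperTriangular (hT c)]; simp [hD]
  refine Nat.card_congr
    { toFun := fun u p => ((u : SLn) : Mn) p.1.1 p.1.2
      invFun := fun c => ⟨⟨M c, hdet c⟩, hT c, hD c⟩
      left_inv := fun u => ?_
      right_inv := fun c => funext fun p => by simp [M, p.2.ne, p.2] }
  refine Subtype.ext (Subtype.ext ?_)
  ext i j
  rcases lt_trichotomy i j with h | rfl | h
  · simp [M, h.ne, h]
  · simp [M, u.2.2]
  · simp [M, h.ne', not_lt.2 h.le]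
    exact (u.2.1 h).symm

theorem exists_sylow_U (n : ℕ) (F : Type*) [Field F] [Finite F] (p : ℕ) [Fact p.Prime] [CharP F p] (hn : 1 ≤ n) :
    ∃ P : Sylow p (Matrix.SpecialLinearGroup (Fin n) F), (P : Subgroup _) = U n F := by
  have := Fintype.ofFinite F
  obtain ⟨f, hp, hq⟩ := FiniteField.card F p
  rw [← Nat.card_eq_fintype_card] at hq
  have hP : IsPGroup p (U n F) := IsPGroup.of_card (n := (f : ℕ) * (n * (n - 1) / 2)) (by rw [card_U, hq, pow_mul])
  refine ⟨hP.toSylow ?_, rfl⟩
  intro hdvd
  have h1 := Subgroup.card_mul_index (U n F)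
  rw [card_U, CfsgLib.Classical.card_SL_fin'] at h1
  have h2 := Nat.eq_of_mul_eq_mul_left (pow_pos Nat.card_pos _) h1
  rw [h2] at hdvd
  obtain ⟨i, -, hi⟩ := (Prime.dvd_finsetProd_iff hp.prime _).1 hdvd
  have h3 : p ∣ Nat.card F ^ (i + 2) := dvd_pow (hq ▸ dvd_pow_self p f.2.ne') (by omega)
  have h4 : 1 ≤ Nat.card F ^ (i + 2) := Nat.one_le_pow _ _ Nat.card_pos
  have h5 := Nat.dvd_sub h3 hi
  rw [Nat.sub_sub_self h4, Nat.dvd_one] at h5
  exact hp.ne_one h5

theorem U_center [NeZero n] {a b : Fin n} (ha : a.1 = 0) (hb : b.1 = n - 1) (hab : a ≠ b)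
    {u : SLn} (hu : u ∈ U n F)
    (hc : ∀ t ∈ U n F, Commute (QuotientGroup.mk u : PSLn) (QuotientGroup.mk t)) :
    ∃ c : F, (QuotientGroup.mk u : PSLn) = X a b c := by
  have hla : ∀ j : Fin n, a ≠ j → a < j := fun j hj => by
    rw [Fin.lt_def, ha]; exact Nat.pos_of_ne_zero fun h => hj (Fin.ext (by omega))
  have hlb : ∀ i : Fin n, i ≠ b → i < b := fun i hi => by
    rw [Fin.lt_def, hb]
    have := i.2
    exact lt_of_le_of_ne (by omega) fun h => hi (Fin.ext (by omega))
  set N : Mn := (u : Mn) - 1 with hN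
  have hcomm : ∀ i j : Fin n, i < j → N * vecMulVec (Pi.single i 1) (Pi.single j 1) =
      vecMulVec (Pi.single i 1) (Pi.single j 1) * N := by
    intro i j hij
    set t : SLn := tv (Pi.single i 1) (Pi.single j 1) with ht
    have htv : (t : Mn) = 1 + vecMulVec (Pi.single i 1) (Pi.single j 1) := tv_val (X_dot hij.ne _)
    have htU : t ∈ U n F := by
      refine ⟨fun k l (hkl : l < k) => ?_, fun k => ?_⟩
      · rw [htv, Matrix.add_apply, Matrix.one_apply_ne hkl.ne', vecMulVec_apply, Pi.single_apply, Pi.single_apply]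
        split_ifs with h1 h2
        · subst h1; subst h2; exact absurd hij (not_lt.2 hkl.le)
        all_goals simp
      · rw [htv, Matrix.add_apply, Matrix.one_apply_eq, vecMulVec_apply, Pi.single_apply, Pi.single_apply]
        split_ifs with h1 h2
        · subst h1; exact absurd h2 hij.ne
        all_goals simp
    have h1 : (QuotientGroup.mk (u * t) : PSLn) = QuotientGroup.mk (t * u) := (hc t htU).eq
    rw [QuotientGroup.eq] at h1
    obtain ⟨r, -, hr⟩ := Matrix.SpecialLinearGroup.mem_center_iff.1 h1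
    have h3 : ((t * u : SLn) : Mn) = r • ((u * t : SLn) : Mn) := by
      have h4 : t * u = (u * t) * ((u * t)⁻¹ * (t * u)) := (mul_inv_cancel_left _ _).symm
      rw [h4, Matrix.SpecialLinearGroup.coe_mul, ← hr, Matrix.scalar_apply, ← Matrix.smul_one_eq_diagonal,
        mul_smul_comm, mul_one]
    have h5 := congrFun (congrFun h3 a) a
    rw [Matrix.smul_apply, ((U n F).mul_mem htU hu).2 a, ((U n F).mul_mem hu htU).2 a, smul_eq_mul, mul_one] at h5
    rw [← h5, one_smul, Matrix.SpecialLinearGroup.coe_mul, Matrix.SpecialLinearGroup.coe_mul, htv,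
      show (u : Mn) = 1 + N by rw [hN]; abel] at h3
    simp only [mul_add, add_mul, one_mul, mul_one] at h3
    have h6 := sub_eq_zero.2 h3
    rw [← sub_eq_zero, ← neg_eq_zero, ← h6]
    abel
  have hNd : ∀ i, N i i = 0 := fun i => by simp [hN, hu.2]
  have hcol : ∀ i j : Fin n, i < j → ∀ k, N k i = 0 := by
    intro i j hij k
    have h := congrFun (congrFun (hcomm i j hij) k) j
    simpa [Matrix.mul_apply, vecMulVec_apply, Pi.single_apply, hNd] using h
  have hrow : ∀ i j : Fin n, i < j → ∀ l, N j l = 0 := by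
    intro i j hij l
    have h := congrFun (congrFun (hcomm i j hij) i) l
    rcases eq_or_ne l j with rfl | hl
    · exact hNd l
    · simpa [Matrix.mul_apply, vecMulVec_apply, Pi.single_apply, hl] using h.symm
  refine ⟨N a b, congrArg _ (Subtype.ext ?_)⟩
  rw [tv_val (X_dot hab _)]
  ext k l
  rw [show (u : Mn) k l = (1 : Mn) k l + N k l by simp [hN], Matrix.add_apply]
  congr 1
  rcases eq_or_ne k a with rfl | hk
  · rcases eq_or_ne l b with rfl | hl
    · simp [vecMulVec_apply]
    · rw [hcol l b (hlb l hl)]; simp [vecMulVec_apply, hl]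
  · rw [hrow a k (hla k hk.symm)]; simp [vecMulVec_apply, hk]

theorem X_center [NeZero n] {a b : Fin n} (ha : a.1 = 0) (hb : b.1 = n - 1) (hab : a ≠ b) (c : F) :
    (tv (Pi.single a c) (Pi.single b 1) : SLn) ∈ U n F ∧
      ∀ t ∈ U n F, Commute (tv (Pi.single a c) (Pi.single b 1) : SLn) t := by
  have hv := tv_val (X_dot (F := F) hab c)
  constructor
  · refine ⟨fun k l (hkl : l < k) => ?_, fun k => ?_⟩
    · rw [hv, Matrix.add_apply, Matrix.one_apply_ne hkl.ne', vecMulVec_apply, Pi.single_apply]
      split_ifs with h1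
      · exfalso; rw [h1, Fin.lt_def, ha] at hkl; omega
      · simp
    · rw [hv, Matrix.add_apply, Matrix.one_apply_eq, vecMulVec_apply, Pi.single_apply, Pi.single_apply]
      split_ifs with h1 h2
      · exact absurd (h1.symm.trans h2) hab
      all_goals simp
  · intro t ht
    refine Subtype.ext ?_
    rw [Matrix.SpecialLinearGroup.coe_mul, Matrix.SpecialLinearGroup.coe_mul, hv, mul_add, add_mul, one_mul, mul_one,
      Matrix.vecMulVec_mul, Matrix.mul_vecMulVec]
    congr 1
    have e1 : (Pi.single b (1 : F)) ᵥ* (t : Mn) = Pi.single b 1 := by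
      funext l
      rw [Matrix.single_one_vecMul, Pi.single_apply]
      split_ifs with h
      · subst h; exact ht.2 l
      · refine ht.1 (show l < b from ?_)
        rw [Fin.lt_def, hb]
        have := l.2
        exact lt_of_le_of_ne (by omega) fun h' => h (Fin.ext (by omega))
    have e2 : (t : Mn) *ᵥ (Pi.single a c) = Pi.single a c := by
      funext k
      rw [Matrix.mulVec_single, Pi.single_apply]
      split_ifs with h
      · subst h; simp [ht.2]
      · have : (t : Mn) k a = 0 := ht.1 (show a < k by rw [Fin.lt_def, ha]; exact Nat.pos_of_ne_zero fun h' => h (Fin.ext (by omega)))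
        simp [this]
    rw [e1, e2]

/-- An automorphism maps the highest root group into some transvection group. -/
theorem image_top [Finite F] (β : MulAut PSLn) {a b : Fin n} (ha : a.1 = 0) (hb : b.1 = n - 1) (hab : a ≠ b) :
    ∃ v φ : Vn, φ ⬝ᵥ v = 0 ∧ v ≠ 0 ∧ φ ≠ 0 ∧ ∀ c : F, ∃ d : F, β (X a b c) = QuotientGroup.mk (tv (d • v) φ) := by
  have hn : 1 ≤ n := by have := a.2; omega
  have : NeZero n := ⟨by omega⟩
  obtain ⟨p, hp⟩ := CharP.exists F
  have hpp : p.Prime := CharP.char_is_prime F p
  have : Fact p.Prime := ⟨hpp⟩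
  obtain ⟨P, hP⟩ := exists_sylow_U n F p hn
  let π : SLn →* PSLn := QuotientGroup.mk' _
  have hπ : Function.Surjective π := QuotientGroup.mk'_surjective _
  let Q : Sylow p PSLn := P.mapSurjective hπ
  let Q' : Sylow p PSLn := Q.mapSurjective (f := β.toMonoidHom) β.surjective
  obtain ⟨h, hh⟩ := MulAction.exists_smul_eq PSLn Q Q'
  induction h using QuotientGroup.induction_on with
  | H t =>
    set g := Matrix.SpecialLinearGroup.toGL t with hg
    refine ⟨(g : Mn) *ᵥ Pi.single a 1, Pi.single b 1 ᵥ* ((g⁻¹ : GL (Fin n) F) : Mn), ?_, ?_, ?_, fun c => ?_⟩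
    · exact (conjSL_tv g (X_dot hab 1)).2
    · intro h0
      have := congrArg (((g⁻¹ : GL (Fin n) F) : Mn) *ᵥ ·) h0
      simp only [Matrix.mulVec_mulVec, Units.inv_mul, Matrix.one_mulVec, Matrix.mulVec_zero] at this
      simpa using congrFun this a
    · intro h0
      have := congrArg (· ᵥ* (g : Mn)) h0
      simp only [Matrix.vecMul_vecMul, Units.inv_mul, Matrix.vecMul_one, Matrix.zero_vecMul] at this
      simpa using congrFun this b
    · have hQ : (Q : Subgroup PSLn) = (U n F).map π := by
        show (P : Subgroup SLn).map π = _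
        rw [hP]
      have hQ' : (Q' : Subgroup PSLn) = (Q : Subgroup PSLn).map β.toMonoidHom := rfl
      have hmem : ∀ y, y ∈ (Q' : Subgroup PSLn) ↔
          (QuotientGroup.mk t : PSLn)⁻¹ * y * QuotientGroup.mk t ∈ (Q : Subgroup PSLn) := by
        intro y
        rw [← hh, Sylow.coe_subgroup_smul, Subgroup.mem_pointwise_smul_iff_inv_smul_mem]
        simp [mul_assoc]
      obtain ⟨hXU, hXc⟩ := X_center ha hb hab c
      have hin : β (X a b c) ∈ (Q' : Subgroup PSLn) := by
        rw [hQ', hQ]
        exact ⟨X a b c, ⟨_, hXU, rfl⟩, rfl⟩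
      have hin' := (hmem _).1 hin
      rw [hQ] at hin'
      obtain ⟨u, hu, huv⟩ := hin'
      obtain ⟨d, hd⟩ := U_center ha hb hab hu (fun s hs => by
        have h1 : (QuotientGroup.mk t : PSLn) * QuotientGroup.mk s * (QuotientGroup.mk t)⁻¹ ∈ (Q' : Subgroup PSLn) := by
          rw [hmem, hQ]
          exact ⟨s, hs, by simp [π, mul_assoc]⟩
        rw [hQ', hQ] at h1
        obtain ⟨_, ⟨s', hs', rfl⟩, hs''⟩ := h1
        have h2 : Commute (β (X a b c)) (β (π s')) := ((hXc s' hs').map π).map β
        have h3 : β.toMonoidHom (π s') = β (π s') := rfl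
        rw [← h3, hs''] at h2
        have h4 := h2.map (MulAut.conj (QuotientGroup.mk t : PSLn)⁻¹)
        have h5 : (QuotientGroup.mk u : PSLn) = MulAut.conj (QuotientGroup.mk t : PSLn)⁻¹ (β (X a b c)) := by
          show π u = _
          rw [huv, MulAut.conj_apply, inv_inv]
        rw [h5]
        convert h4 using 1
        rw [MulAut.conj_apply, inv_inv]
        group)
      refine ⟨d, ?_⟩
      have h6 : β (X a b c) = (QuotientGroup.mk t : PSLn) * X a b d * (QuotientGroup.mk t)⁻¹ := by
        rw [← hd]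
        change _ = _ * π u * _
        rw [huv]
        group
      rw [h6, X, conj_mk, (conjSL_tv g (X_dot hab d)).1, ← Matrix.mulVec_smul, ← Pi.single_smul', smul_eq_mul, mul_one]

end CfsgLib.KnownB.PSLAut
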