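import Mathlib
import Cfsg.Agent.Lib.Geometry.Hermitian

/-!
Galois descent for matrices over a field with an automorphism of finite order, and consequences over finite
fields.
-/

set_option autoImplicit false

namespace CfsgLib.KnownB.Descent

open Matrix

variable {n : ℕ} {F : Type*} [Field F]

local notation "Mn" => Matrix (Fin n) (Fin n) F

/-- `g * σ g * ... * σ^(k-1) g`. -/
def sprod (g : Mn) (σ : F ≃+* F) : ℕ → Mn
  | 0 => 1
  | k + 1 => g * (sprod g σ k).map σ

theorem map_map_pow (σ : F ≃+* F) (k : ℕ) (A : Mn) : (A.map (σ ^ k : F ≃+* F)).map σ = A.map (σ ^ (k + 1) : F ≃+* F) := by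
  rw [pow_succ', Matrix.map_map]
  rfl

theorem sprod_succ' (g : Mn) (σ : F ≃+* F) (k : ℕ) : sprod g σ (k + 1) = sprod g σ k * g.map (σ ^ k : F ≃+* F) := by
  induction k with
  | zero =>
    simp [sprod, Matrix.map_one σ σ.map_zero σ.map_one]
  | succ k ih =>
    conv_lhs => rw [sprod, ih, Matrix.map_mul, map_map_pow, ← mul_assoc]
    conv_rhs => rw [sprod]

/-- The semilinear map `v ↦ g (σ v)`. -/
def semi (g : Mn) (σ : F ≃+* F) (v : Fin n → F) : Fin n → F := g *ᵥ (σ ∘ v)

theorem semi_iterate (g : Mn) (σ : F ≃+* F) (k : ℕ) (v : Fin n → F) :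
    (semi g σ)^[k] v = sprod g σ k *ᵥ (((σ ^ k : F ≃+* F) : F → F) ∘ v) := by
  induction k with
  | zero => simp [sprod]
  | succ k ih =>
    rw [Function.iterate_succ_apply', ih, semi, sprod, ← Matrix.mulVec_mulVec, pow_succ']
    congr 1
    funext i
    simp only [Function.comp_apply, Matrix.mulVec, dotProduct, map_sum, map_mul, Matrix.map_apply]
    rfl

theorem semi_iterate_smul (g : Mn) (σ : F ≃+* F) (k : ℕ) (a : F) (v : Fin n → F) :
    (semi g σ)^[k] (a • v) = (σ ^ k : F ≃+* F) a • (semi g σ)^[k] v := by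
  rw [semi_iterate, semi_iterate, ← Matrix.mulVec_smul]
  congr 1
  funext i
  simp

theorem semi_sum {ι : Type*} (s : Finset ι) (g : Mn) (σ : F ≃+* F) (x : ι → Fin n → F) :
    semi g σ (∑ i ∈ s, x i) = ∑ i ∈ s, semi g σ (x i) := by
  simp only [semi, ← Matrix.mulVec_sum]
  congr 1
  funext j
  simp [map_sum]

/-- Galois descent: a matrix of trivial twisted norm is a twisted coboundary. -/
theorem descent {σ : F ≃+* F} {r : ℕ} (hr : 0 < r) (hσ : orderOf σ = r) {g : Mn} (h : sprod g σ r = 1) :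
    ∃ P : GL (Fin n) F, g * (P : Mn).map σ = P := by
  classical
  have hσr : σ ^ r = 1 := hσ ▸ pow_orderOf_eq_one σ
  set φ := semi g σ with hφ
  have hper : ∀ v, φ^[r] v = v := fun v => by
    rw [hφ, semi_iterate, h, hσr, Matrix.one_mulVec]
    rfl
  let S : Set (Fin n → F) := {v | φ v = v}
  have hfix : ∀ v (a : F), (∑ k : Fin r, φ^[(k : ℕ)] (a • v)) ∈ S := by
    intro v a
    show φ _ = _
    rw [hφ, semi_sum, ← hφ]
    simp only [← Function.iterate_succ_apply']
    rw [Fin.sum_univ_eq_sum_range fun k => φ^[k + 1] (a • v), Fin.sum_univ_eq_sum_range fun k => φ^[k] (a • v)]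
    have h1 := Finset.sum_range_succ (fun k => φ^[k] (a • v)) r
    rw [Finset.sum_range_succ', hper, Function.iterate_zero_apply] at h1
    exact add_right_cancel h1
  have hspan : Submodule.span F S = ⊤ := by
    by_contra hne
    obtain ⟨ℓ, hℓ0, hℓ'⟩ := Submodule.exists_le_ker_of_lt_top _ (lt_top_iff_ne_top.2 hne)
    refine hℓ0 (LinearMap.ext fun v => ?_)
    have hℓ : ∀ w ∈ S, ℓ w = 0 := fun w hw => LinearMap.mem_ker.1 (hℓ' (Submodule.subset_span hw))
    have hli : LinearIndependent F (fun k : Fin r => (((σ ^ (k : ℕ) : F ≃+* F) : F →* F) : F → F)) := by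
      refine (linearIndependent_monoidHom F F).comp (fun k : Fin r => ((σ ^ (k : ℕ) : F ≃+* F) : F →* F)) ?_
      intro i j hij
      refine Fin.ext (pow_injOn_Iio_orderOf (x := σ) (by simp [hσ]) (by simp [hσ]) ?_)
      exact RingEquiv.ext fun x => DFunLike.congr_fun hij x
    have h0 := Fintype.linearIndependent_iff.1 hli (fun k => ℓ (φ^[(k : ℕ)] v)) (funext fun a => by
      have := hℓ _ (hfix v a)
      rw [map_sum] at this
      simp only [hφ, semi_iterate_smul, map_smul, smul_eq_mul] at this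
      rw [Pi.zero_apply, Finset.sum_apply]
      simp only [Pi.smul_apply, smul_eq_mul]
      rw [← this]
      exact Finset.sum_congr rfl fun k _ => mul_comm _ _) ⟨0, hr⟩
    simpa using h0
  obtain ⟨b, hbS, hbspan, hbli⟩ := exists_linearIndependent F S
  rw [hspan] at hbspan
  let B : Module.Basis b F (Fin n → F) := Module.Basis.mk hbli (by simp [hbspan])
  haveI : Fintype b := FiniteDimensional.fintypeBasisIndex B
  let e : Fin n ≃ b := Fintype.equivOfCardEq (by
    rw [← Module.finrank_eq_card_basis B, Module.finrank_fin_fun, Fintype.card_fin])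
  let P : Mn := Matrix.of fun i j => (e j : Fin n → F) i
  have hP : IsUnit P := by
    rw [← Matrix.linearIndependent_cols_iff_isUnit]
    exact hbli.comp e e.injective
  refine ⟨hP.unit, ?_⟩
  rw [IsUnit.unit_spec]
  ext i j
  exact congrFun (hbS (e j).2 : φ (e j : Fin n → F) = _) i

/-- Hilbert's theorem 90. -/
theorem hilbert90 {σ : F ≃+* F} {r : ℕ} (hr : 0 < r) (hσ : orderOf σ = r) {c : F}
    (hc : ∏ k ∈ Finset.range r, (σ ^ k : F ≃+* F) c = 1) : ∃ a : F, a ≠ 0 ∧ c * σ a = a := by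
  have hs : ∀ k, sprod (n := 1) (Matrix.of fun _ _ => c) σ k
      = Matrix.of fun _ _ => ∏ l ∈ Finset.range k, (σ ^ l : F ≃+* F) c := by
    intro k
    induction k with
    | zero => ext i j; fin_cases i; fin_cases j; simp [sprod]
    | succ k ih =>
      rw [sprod_succ', ih]
      ext i j
      simp [Matrix.mul_apply, Finset.prod_range_succ]
  obtain ⟨P, hP⟩ := descent (n := 1) hr hσ (g := Matrix.of fun _ _ => c) (by
    rw [hs, hc]; ext i j; fin_cases i; fin_cases j; simp)
  refine ⟨(P : Matrix (Fin 1) (Fin 1) F) 0 0, ?_, ?_⟩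
  · have := (Matrix.GeneralLinearGroup.det P).ne_zero
    rwa [Matrix.GeneralLinearGroup.val_det_apply, Matrix.det_fin_one] at this
  · simpa [Matrix.mul_apply] using congrFun (congrFun hP 0) 0

/-- The units fixed by `σ`. -/
def fixedUnits (σ : F ≃+* F) : Subgroup Fˣ where
  carrier := {u | σ (u : F) = u}
  one_mem' := by simp
  mul_mem' {a b} ha hb := by
    simp only [Set.mem_ofPred_eq, Units.val_mul, map_mul] at ha hb ⊢
    rw [ha, hb]
  inv_mem' {a} ha := by
    simp only [Set.mem_ofPred_eq, Units.val_inv_eq_inv_val, map_inv₀] at ha ⊢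
    rw [ha]

theorem mem_fixedUnits {σ : F ≃+* F} {u : Fˣ} : u ∈ fixedUnits σ ↔ σ (u : F) = u := Iff.rfl

/-- The norm to the fixed field, on units. -/
def normHom (σ : F ≃+* F) (r : ℕ) : Fˣ →* Fˣ :=
  ∏ k ∈ Finset.range r, Units.map ((σ ^ k : F ≃+* F) : F →* F)

theorem normHom_apply (σ : F ≃+* F) (r : ℕ) (u : Fˣ) :
    ((normHom σ r u : Fˣ) : F) = ∏ k ∈ Finset.range r, (σ ^ k : F ≃+* F) u := by
  rw [normHom, MonoidHom.finset_prod_apply, Units.coe_prod]
  rfl

/-- `u ↦ σ u / u`. -/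
def twist (σ : F ≃+* F) : Fˣ →* Fˣ := Units.map (σ : F →* F) / MonoidHom.id Fˣ

theorem twist_apply (σ : F ≃+* F) (u : Fˣ) : ((twist σ u : Fˣ) : F) = σ u / u := by
  rw [twist, MonoidHom.div_apply, Units.val_div_eq_div_val]
  rfl

theorem map_norm {σ : F ≃+* F} {r : ℕ} (hσ : orderOf σ = r) (a : F) :
    σ (∏ k ∈ Finset.range r, (σ ^ k : F ≃+* F) a) = ∏ k ∈ Finset.range r, (σ ^ k : F ≃+* F) a := by
  rw [map_prod]
  cases r with
  | zero => simp
  | succ m =>
    have h1 : σ ^ (m + 1) = 1 := hσ ▸ pow_orderOf_eq_one σ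
    rw [Finset.prod_range_succ, Finset.prod_range_succ', pow_zero, show σ ((σ ^ m) a) = (σ ^ (m + 1)) a by
      rw [pow_succ']; rfl, h1]
    refine congrArg₂ _ (Finset.prod_congr rfl fun k _ => ?_) rfl
    rw [pow_succ']
    rfl

theorem ker_twist (σ : F ≃+* F) : (twist σ).ker = fixedUnits σ := by
  ext u
  rw [MonoidHom.mem_ker, Units.ext_iff, twist_apply, Units.val_one, div_eq_one_iff_eq u.ne_zero, mem_fixedUnits]

theorem range_twist {σ : F ≃+* F} {r : ℕ} (hr : 0 < r) (hσ : orderOf σ = r) :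
    (twist σ).range = (normHom σ r).ker := by
  ext c
  constructor
  · rintro ⟨u, rfl⟩
    rw [MonoidHom.mem_ker, twist, MonoidHom.div_apply, map_div, div_eq_one]
    refine Units.ext ?_
    rw [normHom_apply, normHom_apply]
    refine Eq.trans ?_ (map_norm hσ (u : F))
    rw [map_prod]
    refine Finset.prod_congr rfl fun k _ => ?_
    show (σ ^ k * σ) (u : F) = (σ * σ ^ k) (u : F)
    rw [← pow_succ, pow_succ']
  · intro hc
    rw [MonoidHom.mem_ker, Units.ext_iff, normHom_apply, Units.val_one] at hc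
    obtain ⟨a, ha0, ha⟩ := hilbert90 hr hσ hc
    refine ⟨(Units.mk0 a ha0)⁻¹, Units.ext ?_⟩
    rw [twist_apply, Units.val_inv_eq_inv_val, Units.val_mk0, map_inv₀, div_inv_eq_mul]
    have : σ a ≠ 0 := (map_ne_zero σ).2 ha0
    field_simp
    linear_combination -ha

/-- Over a finite field the norm is onto the fixed field. -/
theorem range_normHom [Finite F] {σ : F ≃+* F} {r : ℕ} (hr : 0 < r) (hσ : orderOf σ = r) :
    (normHom σ r).range = fixedUnits σ := by
  refine Subgroup.eq_of_le_of_card_ge ?_ (le_of_eq ?_)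
  · rintro _ ⟨u, rfl⟩
    rw [mem_fixedUnits, normHom_apply, map_norm hσ]
  · have h1 := Subgroup.index_mul_card (twist σ).ker
    have h2 := Subgroup.index_mul_card (normHom σ r).ker
    rw [Subgroup.index_ker, range_twist hr hσ, ker_twist] at h1
    rw [Subgroup.index_ker] at h2
    have h3 : 0 < Nat.card (normHom σ r).ker := Nat.card_pos
    exact Nat.eq_of_mul_eq_mul_left h3 (by rw [h1, ← h2, mul_comm])

theorem scalar_map (σ : F ≃+* F) (a : Fˣ) :
    ((GeneralLinearGroup.scalar (Fin n) a : GL (Fin n) F) : Mn).map σ = σ (a : F) • 1 := by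
  ext i j
  rcases eq_or_ne i j with rfl | h <;> simp [*]

theorem map_smul_mat (σ : F ≃+* F) (a : F) (A : Mn) : (a • A).map σ = σ a • A.map σ := by
  ext i j
  simp

/-- A matrix whose twisted norm is scalar is, up to a scalar, a twisted coboundary. -/
theorem descent_scalar [Finite F] [NeZero n] {σ : F ≃+* F} {r : ℕ} (hr : 0 < r) (hσ : orderOf σ = r) {g : Mn}
    (hg : IsUnit g) {c : F} (h : sprod g σ r = c • 1) :
    ∃ (P : GL (Fin n) F) (a : F), a ≠ 0 ∧ (a • g) * (P : Mn).map σ = P := by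
  classical
  have hσr : σ ^ r = 1 := hσ ▸ pow_orderOf_eq_one σ
  have e1 : sprod g σ (r + 1) = σ c • g := by
    rw [sprod, h, map_smul_mat, Matrix.map_one σ σ.map_zero σ.map_one, mul_smul_comm, mul_one]
  have e2 : sprod g σ (r + 1) = c • g := by
    rw [sprod_succ', h, hσr, smul_mul_assoc, one_mul]
    congr 1
  have hg0 : g ≠ 0 := hg.ne_zero
  have hc : σ c = c := by
    by_contra hne
    have : (σ c - c) • g = 0 := by rw [sub_smul, ← e1, ← e2, sub_self]
    exact hg0 ((smul_eq_zero.1 this).resolve_left (sub_ne_zero.2 hne))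
  have hc0 : c ≠ 0 := by
    rintro rfl
    have hu : ∀ k, IsUnit (sprod g σ k) := fun k => by
      induction k with
      | zero => exact isUnit_one
      | succ k ih => exact hg.mul (ih.map (RingEquiv.toRingHom σ).mapMatrix)
    have := (hu r).ne_zero
    rw [h, zero_smul] at this
    exact this rfl
  have hu : (Units.mk0 c hc0)⁻¹ ∈ (normHom σ r).range := by
    rw [range_normHom hr hσ, mem_fixedUnits, Units.val_inv_eq_inv_val, Units.val_mk0, map_inv₀, hc]
  obtain ⟨a, ha⟩ := hu
  have hs : ∀ k, sprod ((a : F) • g) σ k = (∏ l ∈ Finset.range k, (σ ^ l : F ≃+* F) (a : F)) • sprod g σ k := by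
    intro k
    induction k with
    | zero => simp [sprod]
    | succ k ih =>
      rw [sprod_succ', ih, map_smul_mat, Finset.prod_range_succ, sprod_succ', smul_mul_assoc, mul_smul_comm,
        smul_smul]
  obtain ⟨P, hP⟩ := descent hr hσ (g := (a : F) • g) (by
    rw [hs, ← normHom_apply, ha, h, smul_smul]
    simp [hc0])
  exact ⟨P, a, a.ne_zero, hP⟩

/-- A matrix fixed by `σ` up to a scalar is a scalar multiple of a fixed matrix. -/
theorem fixed_up_to_scalar [NeZero n] {σ : F ≃+* F} {r : ℕ} (hr : 0 < r) (hσ : orderOf σ = r) {g : Mn} (hg : g ≠ 0)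
    {c : F} (h : g.map σ = c • g) : ∃ a : F, a ≠ 0 ∧ (a • g).map σ = a • g := by
  have hk : ∀ k, g.map (σ ^ k : F ≃+* F) = (∏ l ∈ Finset.range k, (σ ^ l : F ≃+* F) c) • g := by
    intro k
    induction k with
    | zero => ext i j; simp
    | succ k ih =>
      rw [Finset.prod_range_succ, show g.map (σ ^ (k + 1) : F ≃+* F) = (g.map σ).map (σ ^ k : F ≃+* F) by
        rw [pow_succ, Matrix.map_map]; rfl, h, map_smul_mat, ih, smul_smul, mul_comm]
  have h1 := hk r
  rw [← hσ, pow_orderOf_eq_one, hσ] at h1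
  have hc : ∏ l ∈ Finset.range r, (σ ^ l : F ≃+* F) c = 1 := by
    by_contra hne
    have h2 : ((∏ l ∈ Finset.range r, (σ ^ l : F ≃+* F) c) - 1) • g = 0 := by
      rw [sub_smul, one_smul, ← h1, sub_eq_zero]
      ext i j
      rfl
    exact hg ((smul_eq_zero.1 h2).resolve_left (sub_ne_zero.2 hne))
  obtain ⟨a, ha0, ha⟩ := hilbert90 hr hσ hc
  refine ⟨a, ha0, ?_⟩
  rw [map_smul_mat, h, smul_smul, mul_comm, ha]

/-- The fixed field of `σ` has size the `r`-th root. -/
theorem fixed_field [Fintype F] {p f r : ℕ} [Fact p.Prime] (hF : Fintype.card F = p ^ f) (σ : F ≃+* F)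
    (hr : 0 < r) (hσ : orderOf σ = r) :
    r ∣ f ∧ ∀ (F₀ : Type*) [Field F₀] [Fintype F₀], Fintype.card F₀ = p ^ (f / r) →
      ∃ ι : F₀ →+* F, ∀ x, σ x = x ↔ ∃ y, ι y = x := by
  classical
  haveI : Finite (F ≃+* F) := Finite.of_injective _ DFunLike.coe_injective
  haveI : Fintype (Subgroup.zpowers σ) := Fintype.ofFinite _
  let K := FixedPoints.subfield (Subgroup.zpowers σ) F
  have hK : ∀ x, x ∈ K ↔ σ x = x := by
    intro x
    constructor
    · intro h
      exact h ⟨σ, Subgroup.mem_zpowers σ⟩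
    · intro h τ
      obtain ⟨τ, hτ⟩ := τ
      have : Subgroup.zpowers σ ≤ MulAction.stabilizer (F ≃+* F) x := by
        rw [Subgroup.zpowers_le]; exact h
      exact this hτ
  have hfin : Module.finrank K F = r := by
    rw [FixedPoints.finrank_eq_card (Subgroup.zpowers σ) F, ← Nat.card_eq_fintype_card, Nat.card_zpowers, hσ]
  haveI : Fintype K := Fintype.ofFinite K
  have hcard := Module.card_eq_pow_finrank (K := K) (V := F)
  rw [hfin, hF] at hcard
  obtain ⟨k, -, hk⟩ : ∃ k ≤ f, Fintype.card K = p ^ k :=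
    (Nat.dvd_prime_pow (Fact.out : p.Prime)).1 (hcard ▸ dvd_pow_self _ hr.ne')
  rw [hk, ← pow_mul] at hcard
  have hfk : f = k * r := Nat.pow_right_injective (Fact.out : p.Prime).two_le hcard
  refine ⟨⟨k, by rw [hfk, mul_comm]⟩, fun F₀ _ _ h0 => ?_⟩
  let e : F₀ ≃+* K := FiniteField.ringEquivOfCardEq (by rw [h0, hk, hfk, Nat.mul_div_cancel _ hr])
  refine ⟨K.subtype.comp e.toRingHom, fun x => ?_⟩
  rw [← hK]
  constructor
  · intro h
    exact ⟨e.symm ⟨x, h⟩, by simp⟩
  · rintro ⟨y, rfl⟩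
    exact (e y).2

/-- A non-singular hermitian matrix over a finite field is `P σ(P)ᵀ`. -/
theorem hermitian_factor [Finite F] {σ : F ≃+* F} (hσ : σ ≠ 1) (hσ2 : ∀ a, σ (σ a) = a) {A : Mn}
    (hA : IsUnit A) (hh : A = (A.map σ)ᵀ) : ∃ P : GL (Fin n) F, A = (P : Mn) * ((P : Mn).map σ)ᵀ := by
  classical
  obtain ⟨A, rfl⟩ := hA
  set C : Mn := ((A⁻¹ : GL (Fin n) F) : Mn) with hCdef
  have hC : (C.map σ)ᵀ = C := by
    have h1 : (A : Mn) * (C.map σ)ᵀ = 1 := by
      conv_lhs => arg 1; rw [hh]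
      rw [← Matrix.transpose_mul, ← Matrix.map_mul, hCdef, Units.inv_mul, Matrix.map_one σ σ.map_zero σ.map_one,
        Matrix.transpose_one]
    calc (C.map σ)ᵀ = C * ((A : Mn) * (C.map σ)ᵀ) := by rw [← mul_assoc, hCdef, Units.inv_mul, one_mul]
      _ = C := by rw [h1, mul_one]
  let B : (Fin n → F) →ₛₗ[(σ : F →+* F)] (Fin n → F) →ₗ[F] F :=
    Matrix.toLinearMapₛₗ₂' F (σ : F →+* F) (RingHom.id F) C
  have hBapp : ∀ u v, B u v = ∑ i, ∑ j, σ (u i) * C i j * v j := by
    intro u v
    simp only [B, Matrix.toLinearMapₛₗ₂'_apply, RingHom.id_apply, smul_eq_mul, RingHom.coe_coe]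
    exact Finset.sum_congr rfl fun i _ => Finset.sum_congr rfl fun j _ => by ring
  have hBdot : ∀ u v, B u v = (σ ∘ u) ⬝ᵥ (C *ᵥ v) := by
    intro u v
    simp [hBapp, dotProduct, Matrix.mulVec, Finset.mul_sum, mul_assoc]
  have hS : B.IsSymm := by
    refine ⟨fun u v => ?_⟩
    show σ (B u v) = B v u
    rw [hBapp, hBapp, Finset.sum_comm]
    simp only [map_sum, map_mul, hσ2]
    refine Finset.sum_congr rfl fun i _ => Finset.sum_congr rfl fun j _ => ?_
    have : σ (C j i) = C i j := congrFun (congrFun hC i) j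
    rw [this]
    ring
  have hsep : ∀ v, (∀ u, B u v = 0) → v = 0 := by
    intro v hv
    have hCv : C *ᵥ v = 0 := funext fun i => by
      have := hv (Pi.single i 1)
      rw [hBdot, show (σ : F → F) ∘ Pi.single i 1 = Pi.single i 1 by
        funext j; rcases eq_or_ne j i with rfl | hj <;> simp [*], single_one_dotProduct] at this
      exact this
    have := congrArg ((A : Mn) *ᵥ ·) hCv
    simpa [Matrix.mulVec_mulVec, hCdef] using this
  have hB : B.Nondegenerate := by
    refine ⟨fun u hu => hsep u fun v => ?_, hsep⟩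
    rw [← hS.eq, hu v, map_zero]
  obtain ⟨b, hb⟩ := CfsgLib.Geometry.exists_orthonormal (σ := (σ : F →+* F))
    (fun h => hσ (RingEquiv.ext fun x => RingHom.congr_fun h x)) hσ2 hS hB
  let e : Fin n ≃ Fin (Module.finrank F (Fin n → F)) := finCongr (Module.finrank_fin_fun F).symm
  let P : Mn := Matrix.of fun i j => b (e j) i
  have hP : (P.map σ)ᵀ * C * P = 1 := by
    ext i j
    have := hb (e i) (e j)
    rw [hBapp, Finset.sum_comm] at this
    simp only [Matrix.mul_apply, Finset.sum_mul, Matrix.transpose_apply, Matrix.map_apply, Matrix.one_apply, P,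
      Matrix.of_apply]
    rw [this]
    simp
  have hPu : IsUnit P := IsUnit.of_mul_eq_one_right _ hP
  refine ⟨hPu.unit, ?_⟩
  rw [IsUnit.unit_spec]
  have h3 : C * P * (P.map σ)ᵀ = 1 := mul_eq_one_comm.1 (by rw [← mul_assoc]; exact hP)
  calc (A : Mn) = (A : Mn) * (C * P * (P.map σ)ᵀ) := by rw [h3, mul_one]
    _ = P * (P.map σ)ᵀ := by rw [← mul_assoc, ← mul_assoc, hCdef, Units.mul_inv, one_mul]

/-- Index of the join of two subgroups of a finite cyclic group. -/
theorem index_sup_cyclic {G : Type*} [CommGroup G] [Finite G] [IsCyclic G] (H K : Subgroup G) :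
    (H ⊔ K).index = Nat.gcd H.index K.index := by
  refine Nat.dvd_antisymm (Nat.dvd_gcd (Subgroup.index_dvd_of_le le_sup_left)
    (Subgroup.index_dvd_of_le le_sup_right)) ?_
  set d := Nat.gcd H.index K.index
  have key : ∀ J : Subgroup G, d ∣ J.index → J ≤ (powMonoidHom d : G →* G).range := by
    intro J hJ x hx
    obtain ⟨z, hz⟩ := IsCyclic.exists_generator (α := G)
    obtain ⟨k, rfl⟩ := Submonoid.mem_powers_iff _ _ |>.1 (mem_powers_iff_mem_zpowers.2 (hz x))
    have h1 : (⟨z ^ k, hx⟩ : J) ^ Nat.card J = 1 := pow_card_eq_one'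
    have h2 : (z ^ k) ^ Nat.card J = 1 := congrArg Subtype.val h1
    rw [← pow_mul, ← orderOf_dvd_iff_pow_eq_one, orderOf_eq_card_of_forall_mem_zpowers hz,
      ← J.index_mul_card] at h2
    obtain ⟨l, rfl⟩ := hJ.trans (Nat.dvd_of_mul_dvd_mul_right Nat.card_pos h2)
    exact ⟨z ^ l, by rw [powMonoidHom_apply, ← pow_mul, mul_comm]⟩
  have h : H ⊔ K ≤ (powMonoidHom d : G →* G).range :=
    sup_le (key H (Nat.gcd_dvd_left _ _)) (key K (Nat.gcd_dvd_right _ _))
  have hd : d ∣ Nat.card G := (Nat.gcd_dvd_left _ _).trans H.index_dvd_card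
  have := Subgroup.index_dvd_of_le h
  rwa [IsCyclic.index_powMonoidHom_range, Nat.gcd_eq_right hd] at this

end CfsgLib.KnownB.Descent
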