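import Cfsg.Agent.Lib.KnownB.PSLAut.FieldAut

/-!
Centraliser and class splitting of a graph-field involution of `PSL_n(F)`; finishing lemmas.
-/

set_option autoImplicit false

namespace CfsgLib.KnownB.PSLAut

open Matrix CfsgLib.KnownB.Descent

variable {n : ℕ} {F : Type*} [Field F]

local notation "PSLn" => Matrix.ProjectiveSpecialLinearGroup (Fin n) F
local notation "Mn" => Matrix (Fin n) (Fin n) F

theorem mem_GU_iff {σ : F ≃+* F} {q : ℕ} (hq : ∀ x, σ x = x ^ q) (g : GL (Fin n) F) :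
    g ∈ Cfsg.GU n F q ↔ (g : Mn)ᵀ * (g : Mn).map σ = 1 := by
  have hform : ∀ u v : Fin n → F, Cfsg.hermForm n F q u v = u ⬝ᵥ (σ ∘ v) := by
    intro u v
    simp [Cfsg.hermForm, dotProduct, hq]
  have hmv : ∀ (A : Mn) (v : Fin n → F), σ ∘ (A *ᵥ v) = A.map σ *ᵥ (σ ∘ v) := by
    intro A v
    funext i
    simp [Matrix.mulVec, dotProduct, map_sum]
  have hval : ∀ u v : Fin n → F, Cfsg.hermForm n F q ((g : Mn) *ᵥ u) ((g : Mn) *ᵥ v) =
      u ⬝ᵥ (((g : Mn)ᵀ * (g : Mn).map σ) *ᵥ (σ ∘ v)) := by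
    intro u v
    rw [hform, hmv, ← Matrix.mulVec_mulVec, Matrix.dotProduct_mulVec u (g : Mn)ᵀ, Matrix.vecMul_transpose]
  constructor
  · intro h
    ext i j
    have h1 := h (Pi.single i 1) (Pi.single j 1)
    change Cfsg.hermForm n F q ((g : Mn) *ᵥ _) ((g : Mn) *ᵥ _) = _ at h1
    have hs : σ ∘ (Pi.single j (1 : F) : Fin n → F) = Pi.single j 1 := by
      funext k; rcases eq_or_ne k j with rfl | hk
      · simp
      · simp [hk]
    rw [hval, hform, hs, single_one_dotProduct, single_one_dotProduct, Matrix.mulVec_single_one] at h1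
    rw [Matrix.one_apply]
    rw [Matrix.col_apply] at h1
    rw [h1, Pi.single_apply]
  · intro h u v
    show Cfsg.hermForm n F q ((g : Mn) *ᵥ u) ((g : Mn) *ᵥ v) = _
    rw [hval, h, Matrix.one_mulVec, hform]

/-- `g σ(g)ᵀ` scalar gives a scalar multiple of `g` preserving the hermitian form. -/
theorem exists_unitary_smul [Finite F] [NeZero n] {σ : F ≃+* F} (hσ : orderOf σ = 2) {g : GL (Fin n) F} {c : F}
    (hc0 : c ≠ 0) (h : (g : Mn) * ((g : Mn).map σ)ᵀ = c • 1) :
    ∃ a : Fˣ, ((a : F) • (g : Mn))ᵀ * ((a : F) • (g : Mn)).map σ = 1 := by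
  have hσ2 := sq_eq_of_orderOf_two hσ
  have hc : σ c = c := by
    have h2 := congrArg (fun A : Mn => (A.map σ)ᵀ) h
    simp only [map_smul_mat, Matrix.map_one σ σ.map_zero σ.map_one, Matrix.transpose_smul, Matrix.transpose_one,
      Matrix.map_mul, Matrix.transpose_mul] at h2
    rw [show (((g : Mn).map σ)ᵀ.map σ)ᵀ = (g : Mn) by ext i j; simp [hσ2], h] at h2
    simpa using (congrFun (congrFun h2 0) 0).symm
  have hu : (Units.mk0 c hc0)⁻¹ ∈ (normHom σ 2).range := by
    rw [range_normHom two_pos hσ, mem_fixedUnits, Units.val_inv_eq_inv_val, Units.val_mk0, map_inv₀, hc]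
  obtain ⟨a, ha⟩ := hu
  have ha' : (a : F) * σ (a : F) = c⁻¹ := by
    have := congrArg Units.val ha
    rw [Descent.normHom_apply, Finset.prod_range_succ, Finset.prod_range_one, pow_zero, pow_one] at this
    simpa using this
  refine ⟨a, ?_⟩
  have h3 : ((a : F) • (g : Mn)) * (((a : F) • (g : Mn)).map σ)ᵀ = 1 := by
    rw [map_smul_mat, Matrix.transpose_smul, Matrix.smul_mul, Matrix.mul_smul, h, smul_smul, smul_smul, ha',
      inv_mul_cancel₀ hc0, one_smul]
  have h4 := congrArg Matrix.transpose (mul_eq_one_comm.1 h3)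
  rwa [Matrix.transpose_mul, Matrix.transpose_transpose, Matrix.transpose_one] at h4

theorem unitary_symm {σ : F ≃+* F} {U : Mn} (h : Uᵀ * U.map σ = 1) : U * (U.map σ)ᵀ = 1 := by
  have h4 := congrArg Matrix.transpose h
  rw [Matrix.transpose_mul, Matrix.transpose_transpose, Matrix.transpose_one] at h4
  exact mul_eq_one_comm.1 h4

/-- Centraliser of a standard graph-field involution. -/
theorem graphField_centralizer [Finite F] (hn : 2 ≤ n) {σ : F ≃+* F} (hσ : orderOf σ = 2) {q : ℕ}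
    (hq : ∀ x, σ x = x ^ q) :
    Nonempty (↥((δ : GL (Fin n) F →* MulAut PSLn).range ⊓ Subgroup.centralizer {(fld σ * it : MulAut PSLn)}) ≃*
      Cfsg.PGU n F q) := by
  have : NeZero n := ⟨by omega⟩
  let ψ : Cfsg.GU n F q →* MulAut PSLn := (δ : GL (Fin n) F →* MulAut PSLn).comp (Cfsg.GU n F q).subtype
  have hrange : (δ : GL (Fin n) F →* MulAut PSLn).range ⊓ Subgroup.centralizer {(fld σ * it : MulAut PSLn)} =
      ψ.range := by
    ext β
    rw [Subgroup.mem_inf, Subgroup.mem_centralizer_singleton_iff]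
    constructor
    · rintro ⟨⟨g, rfl⟩, hc⟩
      obtain ⟨c, hc0, hc⟩ := (comm_fld_it_iff hn σ g).1 hc
      obtain ⟨a, ha⟩ := exists_unitary_smul hσ hc0 hc
      refine ⟨⟨GeneralLinearGroup.scalar (Fin n) a * g, (mem_GU_iff hq _).2 ?_⟩, ?_⟩
      · have e : ((GeneralLinearGroup.scalar (Fin n) a * g : GL (Fin n) F) : Mn) = (a : F) • (g : Mn) := by
          ext i j; simp [Matrix.diagonal_mul]
        rw [e]
        exact ha
      · rw [MonoidHom.comp_apply, eq_comm, δ_eq_iff hn]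
        exact ⟨a, a.ne_zero, by ext i j; simp [Matrix.diagonal_mul]⟩
    · rintro ⟨h, rfl⟩
      exact ⟨⟨_, rfl⟩, (comm_fld_it_iff hn σ _).2
        ⟨1, one_ne_zero, by rw [one_smul]; exact unitary_symm ((mem_GU_iff hq _).1 h.2)⟩⟩
  have hker : ψ.ker = (Cfsg.Geo.scalars (Fin n) F).subgroupOf (Cfsg.GU n F q) := by
    ext h
    rw [MonoidHom.mem_ker, Subgroup.mem_subgroupOf, Cfsg.Geo.mem_scalars_iff, MonoidHom.comp_apply, δ_eq_one_iff hn]
    exact ⟨fun ⟨c, hc, e⟩ => ⟨Units.mk0 c hc, e⟩, fun ⟨c, e⟩ => ⟨c, c.ne_zero, e⟩⟩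
  exact ⟨(MulEquiv.subgroupCongr hrange).trans ((QuotientGroup.quotientKerEquivRange ψ).symm.trans
    (QuotientGroup.quotientMulEquivOfEq hker))⟩

theorem mem_unitary_det [Finite F] (hn : 2 ≤ n) {σ : F ≃+* F} (hσ : orderOf σ = 2) :
    ((Subgroup.centralizer {(fld σ * it : MulAut PSLn)}).comap
        (δ : GL (Fin n) F →* MulAut PSLn)).map GeneralLinearGroup.det
      ⊔ (powMonoidHom n : Fˣ →* Fˣ).range = (normHom σ 2).ker ⊔ (powMonoidHom n : Fˣ →* Fˣ).range := by
  have : NeZero n := ⟨by omega⟩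
  have hN : ∀ u : Fˣ, u ∈ (normHom σ 2).ker ↔ (u : F) * σ u = 1 := by
    intro u
    rw [MonoidHom.mem_ker, Units.ext_iff, Descent.normHom_apply, Finset.prod_range_succ, Finset.prod_range_one, pow_zero,
      pow_one]
    rfl
  refine le_antisymm (sup_le ?_ le_sup_right) (sup_le ?_ le_sup_right)
  · rintro _ ⟨g, hg, rfl⟩
    obtain ⟨c, hc0, hc⟩ := (comm_fld_it_iff hn σ g).1 ((range_δ_comap_centralizer _ g).1 hg)
    obtain ⟨a, ha⟩ := exists_unitary_smul hσ hc0 hc
    rw [show GeneralLinearGroup.det g = (a ^ n * GeneralLinearGroup.det g) * (a⁻¹) ^ n by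
      rw [inv_pow, mul_inv_cancel_comm]]
    refine Subgroup.mul_mem_sup ?_ ⟨_, rfl⟩
    rw [hN, Units.val_mul, Units.val_pow_eq_pow_val, GeneralLinearGroup.val_det_apply]
    have h2 : ((a : F) • (g : Mn)).det = (a : F) ^ n * (g : Mn).det := by rw [Matrix.det_smul, Fintype.card_fin]
    rw [← h2]
    have h3 := congrArg Matrix.det ha
    rw [Matrix.det_mul, Matrix.det_transpose, Matrix.det_one] at h3
    exact (congrArg _ (RingHom.map_det (σ : F →+* F) _)).trans h3
  · intro u hu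
    refine Subgroup.mem_sup_left ⟨diagGL (Function.update (fun _ => (1 : Fˣ)) 0 u), ?_, Units.ext ?_⟩
    · rw [SetLike.mem_coe, range_δ_comap_centralizer, comm_fld_it_iff hn]
      refine ⟨1, one_ne_zero, ?_⟩
      rw [one_smul]
      ext i j
      rcases eq_or_ne i j with rfl | hij
      · rcases eq_or_ne i 0 with rfl | hi
        · simpa [diagGL, Matrix.diagonal_mul] using (hN u).1 hu
        · simp [diagGL, Matrix.diagonal_mul, hi]
      · simp [diagGL, Matrix.diagonal_mul, hij, Ne.symm hij]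
    · rw [GeneralLinearGroup.val_det_apply]
      simp [diagGL, Matrix.det_diagonal, Function.update_apply, apply_ite Units.val]

theorem card_fixedUnits {σ : F ≃+* F} {F₀ : Type*} [Field F₀] [Finite F₀] (ι : F₀ →+* F)
    (hι : ∀ x, σ x = x ↔ ∃ y, ι y = x) : Nat.card (fixedUnits σ) = Nat.card F₀ - 1 := by
  have h : fixedUnits σ = (Units.map (ι : F₀ →* F)).range := by
    ext u
    rw [mem_fixedUnits, hι]
    constructor
    · rintro ⟨y, hy⟩
      have : y ≠ 0 := fun h0 => u.ne_zero (by rw [← hy, h0, map_zero])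
      exact ⟨Units.mk0 y this, Units.ext hy⟩
    · rintro ⟨y, rfl⟩
      exact ⟨y, rfl⟩
  have e : F₀ˣ ≃* (Units.map (ι : F₀ →* F)).range :=
    MonoidHom.ofInjective (Units.map_injective (f := (ι : F₀ →* F)) ι.injective)
  rw [h, ← Nat.card_congr e.toEquiv, Nat.card_units]

/-- Class splitting count for a standard field automorphism. -/
theorem field_split [Fintype F] {p f r : ℕ} [Fact p.Prime] (hF : Fintype.card F = p ^ f) (hn : 2 ≤ n)
    {σ : F ≃+* F} (hr : 0 < r) (hσ : orderOf σ = r) :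
    Cfsg.splitClassCount (δ : GL (Fin n) F →* MulAut PSLn).range (Cfsg.Inn PSLn) (fld σ) =
      Nat.gcd n ((p ^ f - 1) / (p ^ (f / r) - 1)) := by
  obtain ⟨hrf, hι⟩ := fixed_field hF σ hr hσ
  have hf : f ≠ 0 := by
    rintro rfl
    have := Fintype.one_lt_card (α := F)
    simp [hF] at this
  have hfr : f / r ≠ 0 := by
    obtain ⟨k, rfl⟩ := hrf
    rw [Nat.mul_div_cancel_left _ hr]
    exact right_ne_zero_of_mul hf
  let := Fintype.ofFinite (GaloisField p (f / r))
  obtain ⟨ι, hι⟩ := hι (GaloisField p (f / r)) (by rw [← Nat.card_eq_fintype_card, GaloisField.card p _ hfr])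
  rw [splitClassCount_eq hn _ _ (mem_fixed_det hn hr hσ)]
  have h := (fixedUnits σ).index_mul_card
  rw [card_fixedUnits ι hι, Nat.card_units, GaloisField.card p _ hfr, Nat.card_eq_fintype_card (α := F), hF] at h
  have hpos : 0 < p ^ (f / r) - 1 := by
    have := Nat.one_lt_pow hfr (Fact.out : p.Prime).one_lt
    omega
  rw [← h, Nat.mul_div_cancel _ hpos, Nat.card_eq_fintype_card, hF, ← h, ← Nat.gcd_assoc,
    Nat.gcd_eq_left (Dvd.intro _ rfl), Nat.gcd_comm]

/-- Class splitting count for a standard graph-field involution. -/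
theorem graphField_split [Fintype F] {p f : ℕ} [Fact p.Prime] (hF : Fintype.card F = p ^ f) (hn : 2 ≤ n)
    {σ : F ≃+* F} (hσ : orderOf σ = 2) :
    Cfsg.splitClassCount (δ : GL (Fin n) F →* MulAut PSLn).range (Cfsg.Inn PSLn) (fld σ * it) =
      Nat.gcd n (p ^ (f / 2) - 1) := by
  obtain ⟨hrf, hι⟩ := fixed_field hF σ two_pos hσ
  have hf : f / 2 ≠ 0 := by
    rintro h0
    obtain ⟨k, rfl⟩ := hrf
    rw [Nat.mul_div_cancel_left _ two_pos] at h0
    subst h0
    have := Fintype.one_lt_card (α := F)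
    simp [hF] at this
  let := Fintype.ofFinite (GaloisField p (f / 2))
  obtain ⟨ι, hι⟩ := hι (GaloisField p (f / 2)) (by rw [← Nat.card_eq_fintype_card, GaloisField.card p _ hf])
  rw [splitClassCount_eq hn _ _ (mem_unitary_det hn hσ), Subgroup.index_ker, range_normHom two_pos hσ,
    card_fixedUnits ι hι, GaloisField.card p _ hf, ← Nat.gcd_assoc, Nat.gcd_comm]
  congr 1
  refine Nat.gcd_eq_left ?_
  rw [Nat.card_eq_fintype_card, hF]
  obtain ⟨k, rfl⟩ := hrf
  rw [Nat.mul_div_cancel_left _ two_pos, mul_comm, pow_mul]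
  simpa using Nat.sub_dvd_pow_sub_pow (p ^ k) 1 2

end CfsgLib.KnownB.PSLAut
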