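import Cfsg.Agent.Lib.KnownB.PSLAut.Out
import Cfsg.Agent.Lib.KnownB.PSLAut.Descent
import Cfsg.Prelude.Def_LieClassical

/-!
Field and graph-field automorphisms of prime order of `PSL_n(F)`: cosets, centralisers, class splitting.
-/

set_option autoImplicit false

namespace CfsgLib.KnownB.PSLAut

open Matrix CfsgLib.KnownB.Descent

/-! ### Transport along conjugation -/

section Transport

variable {X : Type*} [Group X] (D : Subgroup X) [D.Normal]

theorem coset_conj {x α : X} {r : ℕ}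
    (h : ∀ d ∈ D, orderOf (d * (α * x * α⁻¹)) = r → Cfsg.IsConjUnder D (α * x * α⁻¹) (d * (α * x * α⁻¹)))
    {d : X} (hd : d ∈ D) (ho : orderOf (d * x) = r) : Cfsg.IsConjUnder D x (d * x) := by
  have e : α * d * α⁻¹ * (α * x * α⁻¹) = MulAut.conj α (d * x) := by simp [MulAut.conj_apply, mul_assoc]
  obtain ⟨h', hh', he⟩ := h _ (‹D.Normal›.conj_mem d hd α) (by rw [e, MulEquiv.orderOf_eq, ho])
  refine ⟨α⁻¹ * h' * α, by simpa using ‹D.Normal›.conj_mem h' hh' α⁻¹, ?_⟩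
  calc d * x = α⁻¹ * (α * d * α⁻¹ * (α * x * α⁻¹)) * α := by group
    _ = α⁻¹ * (h' * (α * x * α⁻¹) * h'⁻¹) * α := by rw [he]
    _ = α⁻¹ * h' * α * x * (α⁻¹ * h' * α)⁻¹ := by group

theorem isConjUnder_conj (α : X) {x y : X} (h : Cfsg.IsConjUnder D x y) :
    Cfsg.IsConjUnder D (α * x * α⁻¹) (α * y * α⁻¹) := by
  obtain ⟨a, ha, rfl⟩ := h
  exact ⟨α * a * α⁻¹, ‹D.Normal›.conj_mem a ha α, by group⟩

theorem splitClassCount_conj (K : Subgroup X) [K.Normal] (x α : X) :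
    Cfsg.splitClassCount D K x = Cfsg.splitClassCount D K (α * x * α⁻¹) := by
  let e : {y : X // Cfsg.IsConjUnder D x y} ≃ {y : X // Cfsg.IsConjUnder D (α * x * α⁻¹) y} :=
    (MulAut.conj α).toEquiv.subtypeEquiv fun y => by
      refine ⟨isConjUnder_conj D α, fun h => ?_⟩
      simpa [mul_assoc] using isConjUnder_conj D α⁻¹ h
  refine Nat.card_congr (Quot.congr e fun a b => ⟨fun h => isConjUnder_conj K α h, fun h => ?_⟩)
  have := isConjUnder_conj K α⁻¹ h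
  simpa [e, Equiv.subtypeEquiv, mul_assoc] using this

theorem centralizer_conj (x α : X) :
    Nonempty (↥(D ⊓ Subgroup.centralizer {x}) ≃* ↥(D ⊓ Subgroup.centralizer {α * x * α⁻¹})) := by
  refine ⟨((MulAut.conj α).subgroupMap _).trans (MulEquiv.subgroupCongr ?_)⟩
  ext y
  simp only [Subgroup.mem_map, Subgroup.mem_inf, Subgroup.mem_centralizer_singleton_iff, MulEquiv.coe_toMonoidHom,
    MulAut.conj_apply]
  constructor
  · rintro ⟨z, ⟨h1, h2⟩, rfl⟩
    refine ⟨‹D.Normal›.conj_mem z h1 α, ?_⟩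
    calc α * z * α⁻¹ * (α * x * α⁻¹) = α * (z * x) * α⁻¹ := by group
      _ = α * (x * z) * α⁻¹ := by rw [h2]
      _ = α * x * α⁻¹ * (α * z * α⁻¹) := by group
  · rintro ⟨h1, h2⟩
    refine ⟨α⁻¹ * y * α, ⟨by simpa using ‹D.Normal›.conj_mem y h1 α⁻¹, ?_⟩, by simp [mul_assoc]⟩
    calc α⁻¹ * y * α * x = α⁻¹ * (y * (α * x * α⁻¹)) * α := by group
      _ = α⁻¹ * (α * x * α⁻¹ * y) * α := by rw [h2]
      _ = x * (α⁻¹ * y * α) := by group

end Transport

variable {n : ℕ} {F : Type*} [Field F]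

local notation "PSLn" => Matrix.ProjectiveSpecialLinearGroup (Fin n) F
local notation "Mn" => Matrix (Fin n) (Fin n) F

theorem δ_eq_iff (hn : 2 ≤ n) (g h : GL (Fin n) F) :
    (δ g : MulAut PSLn) = δ h ↔ ∃ c : F, c ≠ 0 ∧ (h : Mn) = c • (g : Mn) := by
  rw [MonoidHom.eq_iff, ker_δ hn, mem_center_iff_scalar]
  constructor
  · rintro ⟨u, hu⟩
    refine ⟨((u⁻¹ : Fˣ) : F), Units.ne_zero _, ?_⟩
    rw [eq_inv_mul_iff_mul_eq] at hu
    rw [← hu]
    ext i j
    simp [Matrix.mul_diagonal, mul_comm, mul_assoc]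
  · rintro ⟨c, hc, hh⟩
    refine ⟨Units.mk0 c⁻¹ (inv_ne_zero hc), ?_⟩
    rw [eq_inv_mul_iff_mul_eq]
    refine Units.ext ?_
    rw [Units.val_mul, hh]
    ext i j
    simp [Matrix.mul_diagonal]
    field_simp

theorem δ_eq_one_iff (hn : 2 ≤ n) (g : GL (Fin n) F) :
    (δ g : MulAut PSLn) = 1 ↔ ∃ c : F, c ≠ 0 ∧ (g : Mn) = c • 1 := by
  rw [← map_one (δ : GL (Fin n) F →* MulAut PSLn), eq_comm, δ_eq_iff hn, Units.val_one]

theorem fld_injective (hn : 2 ≤ n) : Function.Injective (fld : (F ≃+* F) → MulAut PSLn) :=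
  (injective_iff_map_eq_one _).2 fun σ h => fld_mem_range hn ⟨1, by rw [map_one, h]⟩

theorem map_coe (σ : F ≃+* F) (g : GL (Fin n) F) :
    ((Matrix.GeneralLinearGroup.map (σ : F →+* F) g : GL (Fin n) F) : Mn) = (g : Mn).map σ := rfl

/-- `IsFieldAutClassPSL` unfolded. -/
theorem fieldClass_iff (hn : 2 ≤ n) {x : MulAut PSLn} (hx : Cfsg.IsFieldAutClassPSL x) :
    ∃ (α : MulAut PSLn) (σ : F ≃+* F), α * x * α⁻¹ = fld σ ∧ orderOf σ = orderOf x := by
  obtain ⟨α, σ, -, h⟩ := hx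
  rw [isStdFieldAutPSL_iff] at h
  refine ⟨α, σ, h, ?_⟩
  rw [← orderOf_injective fld (fld_injective (n := n) hn), ← h]
  exact MulEquiv.orderOf_eq (MulAut.conj α) x

/-- Elements of order `r` in the coset of a standard field automorphism. -/
theorem field_coset [Finite F] (hn : 2 ≤ n) {σ : F ≃+* F} {r : ℕ} (hr : 0 < r) (hσ : orderOf σ = r) :
    ∀ d ∈ (δ : GL (Fin n) F →* MulAut PSLn).range, orderOf (d * fld σ) = r →
      Cfsg.IsConjUnder (δ : GL (Fin n) F →* MulAut PSLn).range (fld σ) (d * fld σ) := by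
  have : NeZero n := ⟨by omega⟩
  rintro _ ⟨g, rfl⟩ ho
  have hp : ∀ k, ∃ G : GL (Fin n) F, (G : Mn) = sprod (g : Mn) σ k ∧ (δ g * fld σ : MulAut PSLn) ^ k = δ G * fld (σ ^ k) := by
    intro k
    induction k with
    | zero => exact ⟨1, rfl, by simp⟩
    | succ k ih =>
      obtain ⟨G, hG, he⟩ := ih
      refine ⟨g * Matrix.GeneralLinearGroup.map (σ : F →+* F) G, ?_, ?_⟩
      · rw [Units.val_mul, map_coe, hG]
        rfl
      · rw [pow_succ', he, mul_assoc (δ g), ← mul_assoc (fld σ), fld_δ, mul_assoc, ← map_mul, ← mul_assoc,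
          ← map_mul, ← pow_succ']
  obtain ⟨G, hG, he⟩ := hp r
  rw [← ho, pow_orderOf_eq_one, ho, ← hσ, pow_orderOf_eq_one, map_one, mul_one] at he
  obtain ⟨c, -, hc⟩ := (δ_eq_one_iff hn G).1 he.symm
  rw [hG] at hc
  obtain ⟨P, a, ha, hP⟩ := descent_scalar hr hσ g.isUnit hc
  refine ⟨δ P, ⟨P, rfl⟩, ?_⟩
  rw [mul_assoc, ← map_inv, fld_δ, ← mul_assoc, ← map_mul]
  congr 1
  rw [eq_comm, δ_eq_iff hn]
  refine ⟨a⁻¹, inv_ne_zero ha, ?_⟩
  rw [Units.val_mul, map_coe, ← Matrix.smul_mul, ← hP]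
  simp only [Matrix.smul_mul, smul_smul, inv_mul_cancel₀ ha, one_smul]
  rw [mul_assoc, ← Matrix.map_mul,
    Units.mul_inv, Matrix.map_one σ σ.map_zero σ.map_one, mul_one]

/-- `IsGraphFieldAutClassPSL` unfolded, for elements of prime order. -/
theorem graphFieldClass_iff (hn : 3 ≤ n) {x : MulAut PSLn} (hx : Cfsg.IsGraphFieldAutClassPSL x) {r : ℕ}
    (hr : r.Prime) (ho : orderOf x = r) :
    ∃ (α : MulAut PSLn) (σ : F ≃+* F), α * x * α⁻¹ = fld σ * it ∧ r = 2 ∧ orderOf σ = 2 ∧ σ ≠ 1 := by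
  obtain ⟨-, α, φ, γ, σ, hσ1, hφ, hγ, h⟩ := hx
  rw [isStdFieldAutPSL_iff] at hφ
  rw [isInverseTransposeAutPSL_iff] at hγ
  subst hφ hγ
  have hpow : (fld σ * it : MulAut PSLn) ^ r = 1 := by
    rw [← h, ← MulAut.conj_apply, ← map_pow, ← ho, pow_orderOf_eq_one, map_one]
  rw [(show Commute (fld σ : MulAut PSLn) it from (it_fld σ).symm).mul_pow, ← map_pow] at hpow
  rcases hr.eq_two_or_odd' with rfl | ⟨k, rfl⟩
  · refine ⟨α, σ, h, rfl, ?_, hσ1⟩
    rw [sq (it : MulAut PSLn), it_mul_self, mul_one] at hpow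
    exact orderOf_eq_prime (fld_injective (n := n) (by omega) (by rw [hpow, map_one])) hσ1
  · exfalso
    rw [pow_succ (it : MulAut PSLn), pow_mul (it : MulAut PSLn), sq, it_mul_self, one_pow, one_mul] at hpow
    refine δ_fld_ne_it hn 1 (σ ^ (2 * k + 1))⁻¹ ?_
    rw [map_one, one_mul, map_inv]
    exact (eq_inv_of_mul_eq_one_right hpow).symm

theorem fld_it_δ (σ : F ≃+* F) (g : GL (Fin n) F) :
    (fld σ * it : MulAut PSLn) * δ g = δ (Matrix.GeneralLinearGroup.map (σ : F →+* F) (itGL g)) * (fld σ * it) := by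
  rw [mul_assoc, it_δ, ← mul_assoc, fld_δ, mul_assoc]

theorem map_itGL_coe (σ : F ≃+* F) (g : GL (Fin n) F) :
    ((Matrix.GeneralLinearGroup.map (σ : F →+* F) (itGL g) : GL (Fin n) F) : Mn) =
      (((g⁻¹ : GL (Fin n) F) : Mn).map σ)ᵀ := by
  rw [map_coe, itGL_coe, Matrix.transpose_map]

theorem sq_eq_of_orderOf_two {σ : F ≃+* F} (hσ : orderOf σ = 2) (a : F) : σ (σ a) = a :=
  DFunLike.congr_fun (show σ * σ = 1 by rw [← sq, ← hσ, pow_orderOf_eq_one]) a

/-- Involutions in the coset of a standard graph-field involution. -/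
theorem graphField_coset [Finite F] (hn : 3 ≤ n) {σ : F ≃+* F} (hσ : orderOf σ = 2) :
    ∀ d ∈ (δ : GL (Fin n) F →* MulAut PSLn).range, orderOf (d * (fld σ * it)) = 2 →
      Cfsg.IsConjUnder (δ : GL (Fin n) F →* MulAut PSLn).range (fld σ * it) (d * (fld σ * it)) := by
  have : NeZero n := ⟨by omega⟩
  have hσ1 : σ ≠ 1 := fun h => by simp [h] at hσ
  have hσ2 := sq_eq_of_orderOf_two hσ
  rintro _ ⟨g, rfl⟩ ho
  have h1 : δ g * (fld σ * it : MulAut PSLn) * (δ g * (fld σ * it)) = 1 := by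
    rw [← sq, ← ho, pow_orderOf_eq_one]
  have h2 : (fld σ * it : MulAut PSLn) * (fld σ * it) = 1 := by
    rw [(show Commute (fld σ : MulAut PSLn) it from (it_fld σ).symm).symm.mul_mul_mul_comm, it_mul_self, mul_one,
      ← map_mul, ← sq, ← hσ, pow_orderOf_eq_one, map_one]
  rw [mul_assoc, ← mul_assoc (fld σ * it), fld_it_δ, mul_assoc (δ (Matrix.GeneralLinearGroup.map _ _)), h2, mul_one,
    ← map_mul, δ_eq_one_iff (by omega)] at h1
  obtain ⟨c, hc0, hc⟩ := h1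
  rw [Units.val_mul, map_itGL_coe] at hc
  -- `g = c σ(g)ᵀ`
  have hA : (g : Mn) = c • ((g : Mn).map σ)ᵀ := by
    calc (g : Mn) = (g : Mn) * ((((g⁻¹ : GL (Fin n) F) : Mn).map σ)ᵀ * ((g : Mn).map σ)ᵀ) := by
          rw [← Matrix.transpose_mul, ← Matrix.map_mul, Units.mul_inv, Matrix.map_one σ σ.map_zero σ.map_one,
            Matrix.transpose_one, mul_one]
      _ = c • ((g : Mn).map σ)ᵀ := by rw [← mul_assoc, hc, Matrix.smul_mul, one_mul]
  have hcc : c * σ c = 1 := by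
    have h3 := congrArg (fun A : Mn => (A.map σ)ᵀ) hA
    simp only [map_smul_mat, Matrix.transpose_smul] at h3
    rw [show ((((g : Mn).map σ)ᵀ).map σ)ᵀ = (g : Mn) by ext i j; simp [hσ2]] at h3
    have h4 : (c * σ c - 1) • (g : Mn) = 0 := by
      rw [sub_smul, one_smul, ← smul_smul, ← h3, ← hA, sub_self]
    exact sub_eq_zero.1 ((smul_eq_zero.1 h4).resolve_right g.isUnit.ne_zero)
  obtain ⟨a, ha0, ha⟩ := hilbert90 (r := 2) two_pos hσ (c := c) (by
    rw [Finset.prod_range_succ, Finset.prod_range_one, pow_zero, pow_one]; exact hcc)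
  obtain ⟨P, hP⟩ := hermitian_factor hσ1 hσ2 (A := a⁻¹ • (g : Mn))
    ((g.isUnit).smul (Units.mk0 a⁻¹ (inv_ne_zero ha0))) (by
      conv_lhs => rw [hA, smul_smul]
      rw [map_smul_mat, Matrix.transpose_smul, map_inv₀]
      congr 1
      have : σ a ≠ 0 := (map_ne_zero σ).2 ha0
      field_simp
      linear_combination ha)
  refine ⟨δ P, ⟨P, rfl⟩, ?_⟩
  rw [mul_assoc (δ P), ← map_inv, fld_it_δ, ← mul_assoc (δ P), ← map_mul]
  congr 1
  rw [δ_eq_iff (by omega)]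
  refine ⟨a⁻¹, inv_ne_zero ha0, ?_⟩
  rw [Units.val_mul, map_itGL_coe, inv_inv, ← hP]

theorem range_δ_comap_centralizer (x₀ : MulAut PSLn) (g : GL (Fin n) F) :
    g ∈ (Subgroup.centralizer {x₀}).comap (δ : GL (Fin n) F →* MulAut PSLn) ↔ δ g * x₀ = x₀ * δ g := by
  rw [Subgroup.mem_comap, Subgroup.mem_centralizer_singleton_iff]

theorem comm_fld_iff (hn : 2 ≤ n) (σ : F ≃+* F) (g : GL (Fin n) F) :
    δ g * fld σ = (fld σ * δ g : MulAut PSLn) ↔ ∃ c : F, c ≠ 0 ∧ (g : Mn).map σ = c • (g : Mn) := by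
  rw [fld_δ, mul_left_inj, δ_eq_iff hn, map_coe]

theorem comm_fld_it_iff (hn : 2 ≤ n) (σ : F ≃+* F) (g : GL (Fin n) F) :
    δ g * (fld σ * it) = (fld σ * it * δ g : MulAut PSLn) ↔
      ∃ c : F, c ≠ 0 ∧ (g : Mn) * ((g : Mn).map σ)ᵀ = c • 1 := by
  rw [fld_it_δ, mul_left_inj, eq_comm, δ_eq_iff hn, map_itGL_coe]
  have key : ((g : Mn).map σ)ᵀ * (((g⁻¹ : GL (Fin n) F) : Mn).map σ)ᵀ = 1 := by
    rw [← Matrix.transpose_mul, ← Matrix.map_mul, Units.inv_mul, Matrix.map_one σ σ.map_zero σ.map_one,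
      Matrix.transpose_one]
  have key' : (((g⁻¹ : GL (Fin n) F) : Mn).map σ)ᵀ * ((g : Mn).map σ)ᵀ = 1 := by
    rw [← Matrix.transpose_mul, ← Matrix.map_mul, Units.mul_inv, Matrix.map_one σ σ.map_zero σ.map_one,
      Matrix.transpose_one]
  constructor
  · rintro ⟨c, hc, h⟩
    exact ⟨c, hc, by nth_rewrite 1 [h]; rw [Matrix.smul_mul, key']⟩
  · rintro ⟨c, hc, h⟩
    refine ⟨c, hc, ?_⟩
    rw [← mul_one (g : Mn), ← key, ← mul_assoc, h, Matrix.smul_mul, one_mul]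

/-- Splitting of a class of the inner-diagonal group. -/
theorem splitClassCount_eq [Finite F] (hn : 2 ≤ n) (x₀ : MulAut PSLn) (L : Subgroup Fˣ)
    (hL : ((Subgroup.centralizer {x₀}).comap (δ : GL (Fin n) F →* MulAut PSLn)).map GeneralLinearGroup.det
      ⊔ (powMonoidHom n : Fˣ →* Fˣ).range = L ⊔ (powMonoidHom n : Fˣ →* Fˣ).range) :
    Cfsg.splitClassCount (δ : GL (Fin n) F →* MulAut PSLn).range (Cfsg.Inn PSLn) x₀ =
      Nat.gcd L.index (Nat.gcd (Nat.card F - 1) n) := by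
  set R := (powMonoidHom n : Fˣ →* Fˣ).range with hR
  rw [show Nat.gcd (Nat.card F - 1) n = R.index by rw [hR, IsCyclic.index_powMonoidHom_range, Nat.card_units],
    ← index_sup_cyclic, ← Subgroup.index_comap_of_surjective (L ⊔ R) (det_surjective (n := n) (by omega))]
  set J := (L ⊔ R).comap (GeneralLinearGroup.det : GL (Fin n) F →* Fˣ) with hJ
  set D := (δ : GL (Fin n) F →* MulAut PSLn).range
  let r : {y : MulAut PSLn // Cfsg.IsConjUnder D x₀ y} → {y : MulAut PSLn // Cfsg.IsConjUnder D x₀ y} → Prop :=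
    fun y z => Cfsg.IsConjUnder (Cfsg.Inn PSLn) y.1 z.1
  have hr : Equivalence r := by
    refine ⟨fun y => ⟨1, one_mem _, by simp⟩, ?_, ?_⟩
    · rintro y z ⟨a, ha, h⟩
      exact ⟨a⁻¹, inv_mem ha, by rw [h]; group⟩
    · rintro y z w ⟨a, ha, h⟩ ⟨b, hb, h'⟩
      exact ⟨b * a, mul_mem hb ha, by rw [h', h]; group⟩
  have hmemJ : ∀ g : GL (Fin n) F, g ∈ J ↔
      ∃ l : GL (Fin n) F, δ l * x₀ = x₀ * δ l ∧ δ (g * l⁻¹) ∈ Cfsg.Inn PSLn := by
    intro g
    rw [hJ, Subgroup.mem_comap, ← hL, Subgroup.mem_sup]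
    constructor
    · rintro ⟨_, ⟨l, hl, rfl⟩, e, he, h⟩
      refine ⟨l, (range_δ_comap_centralizer x₀ l).1 hl, (δ_mem_inn_iff hn _).2 ?_⟩
      rw [map_mul, map_inv, ← h, mul_comm _ e, mul_inv_cancel_right]
      exact he
    · rintro ⟨l, hl, h⟩
      refine ⟨_, ⟨l, (range_δ_comap_centralizer x₀ l).2 hl, rfl⟩, _, (δ_mem_inn_iff hn _).1 h, ?_⟩
      rw [map_mul, map_inv, mul_comm, inv_mul_cancel_right]
  let conjy : GL (Fin n) F → {y : MulAut PSLn // Cfsg.IsConjUnder D x₀ y} :=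
    fun g => ⟨δ g * x₀ * (δ g)⁻¹, δ g, ⟨g, rfl⟩, rfl⟩
  have hrel : ∀ a b, r (conjy a) (conjy b) ↔ a⁻¹ * b ∈ J := by
    intro a b
    rw [hmemJ]
    constructor
    · rintro ⟨s, hs, h⟩
      obtain ⟨t, ht⟩ : ∃ t, δ t = s := by
        rw [inn_eq] at hs
        obtain ⟨u, hu⟩ := hs
        exact ⟨_, hu⟩
      refine ⟨a⁻¹ * t⁻¹ * b, ?_, ?_⟩
      · change δ b * x₀ * (δ b)⁻¹ = s * (δ a * x₀ * (δ a)⁻¹) * s⁻¹ at h
        rw [map_mul, map_mul, map_inv, map_inv, ht]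
        calc (δ a)⁻¹ * s⁻¹ * δ b * x₀ = (δ a)⁻¹ * s⁻¹ * (δ b * x₀ * (δ b)⁻¹) * δ b := by group
          _ = x₀ * ((δ a)⁻¹ * s⁻¹ * δ b) := by rw [h]; group
      · rw [show a⁻¹ * b * (a⁻¹ * t⁻¹ * b)⁻¹ = a⁻¹ * t * a by group, map_mul, map_mul, map_inv, ht]
        simpa using (Cfsg.innNormal PSLn).conj_mem s hs (δ a)⁻¹
    · rintro ⟨l, hl, hk⟩
      refine ⟨δ a * δ (a⁻¹ * b * l⁻¹) * (δ a)⁻¹, (Cfsg.innNormal PSLn).conj_mem _ hk (δ a), ?_⟩
      change δ b * x₀ * (δ b)⁻¹ = _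
      simp only [map_mul, map_inv, conjy]
      calc δ b * x₀ * (δ b)⁻¹ = δ b * (δ l)⁻¹ * (δ l * x₀) * (δ b)⁻¹ := by group
        _ = δ b * (δ l)⁻¹ * (x₀ * δ l) * (δ b)⁻¹ := by rw [hl]
        _ = _ := by group
  let φ : GL (Fin n) F ⧸ J → Quot r := Quotient.lift (fun g => Quot.mk r (conjy g))
    fun a b h => Quot.sound ((hrel a b).2 (QuotientGroup.leftRel_apply.1 h))
  refine (Nat.card_congr (Equiv.ofBijective φ ⟨?_, ?_⟩)).symm
  · intro a b h
    induction a using QuotientGroup.induction_on with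
    | H a =>
      induction b using QuotientGroup.induction_on with
      | H b =>
        refine QuotientGroup.eq.2 ((hrel a b).1 ?_)
        exact hr.eqvGen_iff.1 (Quot.eqvGen_exact h)
  · intro q
    induction q using Quot.inductionOn with
    | h y =>
      obtain ⟨y, d, ⟨g, rfl⟩, rfl⟩ := y
      exact ⟨QuotientGroup.mk g, rfl⟩

/-- Centraliser of a standard field automorphism. -/
theorem field_centralizer [Finite F] (hn : 2 ≤ n) {σ : F ≃+* F} {r : ℕ} (hr : 0 < r) (hσ : orderOf σ = r)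
    {F₀ : Type*} [Field F₀] (ι : F₀ →+* F) (hι : ∀ x, σ x = x ↔ ∃ y, ι y = x) :
    Nonempty (↥((δ : GL (Fin n) F →* MulAut PSLn).range ⊓ Subgroup.centralizer {(fld σ : MulAut PSLn)}) ≃*
      Matrix.ProjGenLinGroup (Fin n) F₀) := by
  have : NeZero n := ⟨by omega⟩
  let ψ : GL (Fin n) F₀ →* MulAut PSLn := (δ : GL (Fin n) F →* MulAut PSLn).comp (GeneralLinearGroup.map ι)
  have hrange : (δ : GL (Fin n) F →* MulAut PSLn).range ⊓ Subgroup.centralizer {(fld σ : MulAut PSLn)} = ψ.range := by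
    ext β
    rw [Subgroup.mem_inf, Subgroup.mem_centralizer_singleton_iff]
    constructor
    · rintro ⟨⟨g, rfl⟩, hc⟩
      obtain ⟨c, -, hc⟩ := (comm_fld_iff hn σ g).1 hc
      obtain ⟨a, ha0, ha⟩ := fixed_up_to_scalar hr hσ g.isUnit.ne_zero hc
      have he : ∀ i j, ∃ y, ι y = (a • (g : Mn)) i j := fun i j => (hι _).1 (congrFun (congrFun ha i) j)
      choose M hM using he
      have hM' : (Matrix.of M).map ι = a • (g : Mn) := by ext i j; exact hM i j
      have hdet : (Matrix.of M).det ≠ 0 := fun h0 => by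
        have := congrArg ι h0
        rw [RingHom.map_det, map_zero, RingHom.mapMatrix_apply, hM', Matrix.det_smul] at this
        exact (mul_ne_zero (pow_ne_zero _ ha0)
          (GeneralLinearGroup.det g).ne_zero) this
      refine ⟨GeneralLinearGroup.mkOfDetNeZero _ hdet, ?_⟩
      rw [MonoidHom.comp_apply, eq_comm, δ_eq_iff hn]
      exact ⟨a, ha0, hM'⟩
    · rintro ⟨h, rfl⟩
      refine ⟨⟨_, rfl⟩, (comm_fld_iff hn σ _).2 ⟨1, one_ne_zero, ?_⟩⟩
      rw [one_smul]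
      ext i j
      exact (hι _).2 ⟨_, rfl⟩
  have hker : ψ.ker = Subgroup.center (GL (Fin n) F₀) := by
    ext h
    rw [MonoidHom.mem_ker, MonoidHom.comp_apply, δ_eq_one_iff hn, mem_center_iff_scalar]
    constructor
    · rintro ⟨c, hc, he⟩
      have hdiag : ∀ i j, ι ((h : Matrix (Fin n) (Fin n) F₀) i j) = (c • (1 : Mn)) i j := fun i j =>
        congrFun (congrFun he i) j
      have h0 : (h : Matrix (Fin n) (Fin n) F₀) 0 0 ≠ 0 := fun h0 => by
        have := hdiag 0 0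
        rw [h0, map_zero] at this
        simp [eq_comm, hc] at this
      refine ⟨Units.mk0 _ h0, Units.ext ?_⟩
      ext i j
      refine ι.injective ?_
      rw [hdiag i j]
      have := hdiag 0 0
      rcases eq_or_ne i j with rfl | hij <;> simp_all
    · rintro ⟨u, rfl⟩
      refine ⟨ι u, (map_ne_zero ι).2 u.ne_zero, ?_⟩
      ext i j
      rcases eq_or_ne i j with rfl | hij <;> simp [*]
  exact ⟨(MulEquiv.subgroupCongr hrange).trans ((QuotientGroup.quotientKerEquivRange ψ).symm.trans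
    (QuotientGroup.quotientMulEquivOfEq hker))⟩

theorem mem_fixed_det [Finite F] (hn : 2 ≤ n) {σ : F ≃+* F} {r : ℕ} (hr : 0 < r) (hσ : orderOf σ = r) :
    ((Subgroup.centralizer {(fld σ : MulAut PSLn)}).comap (δ : GL (Fin n) F →* MulAut PSLn)).map GeneralLinearGroup.det
      ⊔ (powMonoidHom n : Fˣ →* Fˣ).range = fixedUnits σ ⊔ (powMonoidHom n : Fˣ →* Fˣ).range := by
  have : NeZero n := ⟨by omega⟩
  refine le_antisymm (sup_le ?_ le_sup_right) (sup_le ?_ le_sup_right)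
  · rintro _ ⟨g, hg, rfl⟩
    obtain ⟨c, -, hc⟩ := (comm_fld_iff hn σ g).1 ((range_δ_comap_centralizer _ g).1 hg)
    obtain ⟨a, ha0, ha⟩ := fixed_up_to_scalar hr hσ g.isUnit.ne_zero hc
    rw [show GeneralLinearGroup.det g = ((Units.mk0 a ha0) ^ n * GeneralLinearGroup.det g) * ((Units.mk0 a ha0)⁻¹) ^ n by
      rw [inv_pow, mul_inv_cancel_comm]]
    refine Subgroup.mul_mem_sup ?_ ⟨_, rfl⟩
    rw [mem_fixedUnits, Units.val_mul, Units.val_pow_eq_pow_val, Units.val_mk0, GeneralLinearGroup.val_det_apply]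
    have h2 : (a • (g : Mn)).det = a ^ n * (g : Mn).det := by rw [Matrix.det_smul, Fintype.card_fin]
    rw [← h2]
    exact (RingHom.map_det (σ : F →+* F) _).trans (congrArg Matrix.det ha)
  · intro u hu
    refine Subgroup.mem_sup_left ⟨diagGL (Function.update (fun _ => (1 : Fˣ)) 0 u), ?_, Units.ext ?_⟩
    · rw [SetLike.mem_coe, range_δ_comap_centralizer, comm_fld_iff hn]
      refine ⟨1, one_ne_zero, ?_⟩
      rw [one_smul]
      ext i j
      rcases eq_or_ne i j with rfl | hij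
      · rcases eq_or_ne i 0 with rfl | hi
        · simpa [diagGL] using mem_fixedUnits.1 hu
        · simp [diagGL, hi]
      · simp [diagGL, hij]
    · rw [GeneralLinearGroup.val_det_apply]
      simp [diagGL, Matrix.det_diagonal, Function.update_apply, apply_ite Units.val]

end CfsgLib.KnownB.PSLAut
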