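import Cfsg.Agent.Lib.KnownB.PSLAut.Decomp

/-!
`Aut PSL_n(F)`: existence and uniqueness of the decomposition.
-/

set_option autoImplicit false

namespace CfsgLib.KnownB.PSLAut

open Matrix
open scoped commutatorElement

variable {n : ℕ} {F : Type*} [Field F]

local notation "SLn" => Matrix.SpecialLinearGroup (Fin n) F
local notation "PSLn" => Matrix.ProjectiveSpecialLinearGroup (Fin n) F
local notation "Mn" => Matrix (Fin n) (Fin n) F
local notation "Vn" => (Fin n → F)

/-- The diagonal matrix of units. -/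
def diagGL (d : Fin n → Fˣ) : GL (Fin n) F where
  val := Matrix.diagonal fun i => (d i : F)
  inv := Matrix.diagonal fun i => ((d i)⁻¹ : Fˣ)
  val_inv := by rw [Matrix.diagonal_mul_diagonal, ← Matrix.diagonal_one]; congr 1; funext i; simp
  inv_val := by rw [Matrix.diagonal_mul_diagonal, ← Matrix.diagonal_one]; congr 1; funext i; simp

theorem δ_diagGL_X (d : Fin n → Fˣ) {i j : Fin n} (h : i ≠ j) (c : F) :
    δ (diagGL d) (X i j c : PSLn) = X i j ((d i : F) * c * ((d j)⁻¹ : Fˣ)) := by
  have : NeZero n := ⟨by have := i.2; omega⟩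
  obtain ⟨e, h'⟩ := conjSL_tv (diagGL d) (X_dot h c)
  rw [X, δ_mk, e, X, mk_tv_eq_iff h' (X_dot h _)]
  ext r s
  simp [diagGL, vecMulVec_apply, Matrix.mulVec_diagonal, Matrix.vecMul_diagonal, Pi.single_apply]
  split_ifs
  all_goals first | (simp_all; done) | ring | (simp_all; ring) | (simp_all [mul_comm])

theorem commutator_X {i j k : Fin n} (hij : i ≠ j) (hik : i ≠ k) (hkj : k ≠ j) (a b : F) :
    ⁅(X i k a : PSLn), X k j b⁆ = X i j (a * b) := by
  rw [X_eq_transvection hik, X_eq_transvection hkj, X_eq_transvection hij,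
    ← CfsgLib.Classical.commutator_transvection hij hik hkj a b]
  exact (map_commutatorElement (QuotientGroup.mk' (Subgroup.center SLn)) _ _).symm

/-- `n ≥ 3`: if every root group is stabilised then the automorphism is diagonal times field. -/
theorem normalize_big [Finite F] (hn : 3 ≤ n) (α : MulAut PSLn) (f : Fin n → Fin n → F → F)
    (hbij : ∀ i j, i ≠ j → Function.Bijective (f i j))
    (hadd : ∀ i j, i ≠ j → ∀ a b, f i j (a + b) = f i j a + f i j b)
    (hf : ∀ i j, i ≠ j → ∀ c, α (X i j c) = X i j (f i j c)) :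
    ∃ (g : GL (Fin n) F) (σ : F ≃+* F), α = δ g * fld σ := by
  classical
  have : NeZero n := ⟨by omega⟩
  have hrel : ∀ i j k, i ≠ j → i ≠ k → k ≠ j → ∀ a b, f i j (a * b) = f i k a * f k j b := by
    intro i j k hij hik hkj a b
    apply X_injective hij
    rw [← hf i j hij, ← commutator_X hij hik hkj a b, ← commutator_X hij hik hkj (f i k a) (f k j b),
      map_commutatorElement, hf i k hik, hf k j hkj]
  have hne : ∀ i j, i ≠ j → ∀ c, c ≠ 0 → f i j c ≠ 0 := by
    intro i j hij c hc h0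
    have hz : f i j 0 = 0 := by
      have := hadd i j hij 0 0
      rw [add_zero] at this
      exact left_eq_add.1 this
    exact hc ((hbij i j hij).1 (h0.trans hz.symm))
  let o : Fin n := 0
  let d : Fin n → Fˣ := fun j => if h : j = o then 1 else Units.mk0 (f o j 1) (hne o j (Ne.symm h) 1 one_ne_zero)
  let F' : Fin n → Fin n → F → F := fun i j c => (d i : F) * f i j c * ((d j)⁻¹ : Fˣ)
  have hF : ∀ i j, i ≠ j → ∀ c, (δ (diagGL d) * α) (X i j c) = X i j (F' i j c) := by
    intro i j hij c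
    rw [MulAut.mul_apply, hf i j hij, δ_diagGL_X d hij]
  have h1 : ∀ j, j ≠ o → F' o j 1 = 1 := by
    intro j hj
    simp [F', d, hj, mul_inv_cancel₀ (hne o j hj.symm 1 one_ne_zero)]
  have hrel' : ∀ i j k, i ≠ j → i ≠ k → k ≠ j → ∀ a b, F' i j (a * b) = F' i k a * F' k j b := by
    intro i j k hij hik hkj a b
    simp only [F', hrel i j k hij hik hkj a b]
    rw [Units.val_inv_eq_inv_val, Units.val_inv_eq_inv_val]
    field_simp [(d k).ne_zero]
  have h1' : ∀ k j, k ≠ o → j ≠ o → k ≠ j → F' k j 1 = 1 := by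
    intro k j hk hj hkj
    have := hrel' o j k hj.symm hk.symm hkj 1 1
    rw [one_mul, h1 j hj, h1 k hk, one_mul] at this
    exact this.symm
  obtain ⟨j₁, hj₁, -⟩ := third hn o o
  set s := F' o j₁ with hs
  have hoj : ∀ j, j ≠ o → F' o j = s := by
    intro j hj
    rcases eq_or_ne j j₁ with rfl | hne'
    · rfl
    funext a
    have := hrel' o j j₁ hj.symm hj₁.symm hne'.symm a 1
    rw [mul_one, h1' j₁ j hj₁ hj hne'.symm, mul_one] at this
    exact this
  have hkj : ∀ k j, k ≠ o → j ≠ o → k ≠ j → F' k j = s := by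
    intro k j hk hj hne'
    funext b
    have := hrel' o j k hj.symm hk.symm hne' 1 b
    rw [one_mul, h1 k hk, one_mul, hoj j hj] at this
    exact this.symm
  have hko : ∀ k, k ≠ o → F' k o = s := by
    intro k hk
    funext a
    obtain ⟨j, hjo, hjk⟩ := third hn o k
    have := hrel' k j o hjk.symm hk hjo.symm a 1
    rw [mul_one, hkj k j hk hjo hjk.symm, h1 j hjo, mul_one] at this
    exact this.symm
  have hall : ∀ i j, i ≠ j → F' i j = s := by
    intro i j hij
    rcases eq_or_ne i o with rfl | hi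
    · exact hoj j hij.symm
    rcases eq_or_ne j o with rfl | hj
    · exact hko i hi
    exact hkj i j hi hj hij
  have hmul : ∀ a b, s (a * b) = s a * s b := by
    intro a b
    obtain ⟨j, hjo, hjk⟩ := third hn o j₁
    have := hrel' o j₁ j hj₁.symm hjo.symm hjk a b
    rwa [hall o j hjo.symm, hall j j₁ hjk] at this
  have hsadd : ∀ a b, s (a + b) = s a + s b := by
    intro a b
    simp only [hs, F', hadd o j₁ hj₁.symm]
    ring
  have hsinj : Function.Injective s := by
    intro a b h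
    simp only [hs, F', mul_eq_mul_right_iff, mul_eq_mul_left_iff, Units.ne_zero, or_false] at h
    exact (hbij o j₁ hj₁.symm).1 h
  let σ : F ≃+* F :=
    { Equiv.ofBijective s ⟨hsinj, Finite.injective_iff_surjective.1 hsinj⟩ with
      map_mul' := hmul, map_add' := hsadd }
  refine ⟨(diagGL d)⁻¹, σ, ?_⟩
  have : δ (diagGL d) * α = fld σ := aut_ext_X fun i j hij c => by
    rw [hF i j hij, fld_X σ hij, hall i j hij]
    rfl
  rw [map_inv, ← this, inv_mul_cancel_left]

/-- `n = 2`: if both root groups are stabilised then the automorphism is diagonal times field. -/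
theorem normalize_two [Finite F] (α : MulAut (Matrix.ProjectiveSpecialLinearGroup (Fin 2) F))
    (f : Fin 2 → Fin 2 → F → F) (hbij : ∀ i j, i ≠ j → Function.Bijective (f i j))
    (hadd : ∀ i j, i ≠ j → ∀ a b, f i j (a + b) = f i j a + f i j b)
    (hf : ∀ i j, i ≠ j → ∀ c, α (X i j c) = X i j (f i j c)) :
    ∃ (g : GL (Fin 2) F) (σ : F ≃+* F), α = δ g * fld σ := by
  classical
  have hzero : ∀ i j, i ≠ j → f i j 0 = 0 := fun i j hij => by
    have := hadd i j hij 0 0
    rw [add_zero] at this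
    exact left_eq_add.1 this
  have h01 : (0 : Fin 2) ≠ 1 := zero_ne_one
  have h10 : (1 : Fin 2) ≠ 0 := one_ne_zero
  have hs0 : f 0 1 1 ≠ 0 := fun h => one_ne_zero ((hbij 0 1 h01).1 (h.trans (hzero 0 1 h01).symm))
  let d : Fin 2 → Fˣ := ![1, Units.mk0 _ hs0]
  set s : F → F := fun c => f 0 1 c / f 0 1 1 with hs
  set h : F → F := fun c => f 1 0 c * f 0 1 1 with hh
  have hβ01 : ∀ c, (δ (diagGL d) * α) (X 0 1 c) = X 0 1 (s c) := fun c => by
    rw [MulAut.mul_apply, hf 0 1 h01, δ_diagGL_X d h01]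
    congr 1
    simp [d, hs, div_eq_mul_inv]
  have hβ10 : ∀ c, (δ (diagGL d) * α) (X 1 0 c) = X 1 0 (h c) := fun c => by
    rw [MulAut.mul_apply, hf 1 0 h10, δ_diagGL_X d h10]
    congr 1
    simp [d, hh, mul_comm]
  have s1 : s 1 = 1 := div_self hs0
  have sadd : ∀ a b, s (a + b) = s a + s b := fun a b => by simp [hs, hadd 0 1 h01, add_div]
  have hhadd : ∀ a b, h (a + b) = h a + h b := fun a b => by simp [hh, hadd 1 0 h10, add_mul]
  have s0 : s 0 = 0 := by simp [hs, hzero 0 1 h01]
  have sinj : Function.Injective s := fun a b e => (hbij 0 1 h01).1 (by simpa [hs, hs0] using e)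
  have sne : ∀ {c}, c ≠ 0 → s c ≠ 0 := fun hc e => hc (sinj (e.trans s0.symm))
  have hneg : ∀ c, h (-c) = - h c := fun c => by
    have e := hhadd c (-c)
    rw [add_neg_cancel] at e
    have e0 : h 0 = 0 := by simp [hh, hzero 1 0 h10]
    rw [e0] at e
    exact eq_neg_of_add_eq_zero_right e.symm
  -- the Weyl element relation
  have hW : ∀ a b c : F,
      (X 0 1 a * X 1 0 b * X 0 1 a) * X 0 1 c * (X 0 1 a * X 1 0 b * X 0 1 a)⁻¹ =
        (QuotientGroup.mk (tv (c • ![1 + a * b, b]) ![-b, 1 + a * b]) :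
          Matrix.ProjectiveSpecialLinearGroup (Fin 2) F) := by
    intro a b c
    set W : Matrix.SpecialLinearGroup (Fin 2) F := tv (Pi.single 0 a) (Pi.single 1 1) *
      tv (Pi.single 1 b) (Pi.single 0 1) * tv (Pi.single 0 a) (Pi.single 1 1) with hWdef
    rw [show (X 0 1 a * X 1 0 b * X 0 1 a : Matrix.ProjectiveSpecialLinearGroup (Fin 2) F) = QuotientGroup.mk W from rfl]
    have hd : ![-b, 1 + a * b] ⬝ᵥ (c • ![1 + a * b, b]) = 0 := by
      simp [dotProduct, Fin.sum_univ_two]; ring
    obtain ⟨e, h'⟩ := conjSL_tv (Matrix.SpecialLinearGroup.toGL W) (X_dot h01 c)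
    rw [X, conj_mk, e, mk_tv_eq_iff h' hd]
    rw [← inv_coe_GL]
    show vecMulVec ((W : Matrix (Fin 2) (Fin 2) F) *ᵥ _) _ = _
    simp only [hWdef, _root_.mul_inv_rev, tv_inv (X_dot h01 a), tv_inv (X_dot h10 b), Matrix.SpecialLinearGroup.coe_mul,
      tv_val (X_dot h01 a), tv_val (X_dot h10 b)]
    rw [tv_val (by simp), tv_val (by simp)]
    ext i j
    fin_cases i <;> fin_cases j <;>
      simp [vecMulVec_apply, Matrix.mul_apply, Matrix.mulVec, Matrix.vecMul, dotProduct, Fin.sum_univ_two,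
        Matrix.one_apply, Pi.single_apply] <;> first | (ring; done) | (left; ring; done) | (left; left; ring; done) | (ring_nf; simp)
  have hkey : ∀ t u : F, t ≠ 0 → u ≠ 0 → h (-t⁻¹) = -(s t)⁻¹ ∧ h (-(u / t ^ 2)) = -(s u / s t ^ 2) := by
    intro t u ht hu
    have e1 := hW t (-t⁻¹) u
    rw [show (1 + t * -t⁻¹ : F) = 0 by field_simp; ring] at e1
    have e2 : (QuotientGroup.mk (tv (u • ![0, -t⁻¹]) ![- -t⁻¹, 0]) : Matrix.ProjectiveSpecialLinearGroup (Fin 2) F) =
        X 1 0 (-(u / t ^ 2)) := by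
      rw [X, mk_tv_eq_iff (by simp [dotProduct, Fin.sum_univ_two]) (X_dot h10 _)]
      ext i j
      fin_cases i <;> fin_cases j <;> simp [vecMulVec_apply] <;> field_simp
    have e3 := congrArg (δ (diagGL d) * α) e1
    rw [e2, hβ10, map_mul, map_mul, map_inv, map_mul, map_mul, hβ01, hβ01, hβ10, hW] at e3
    rw [X, mk_tv_eq_iff (by simp [dotProduct, Fin.sum_univ_two]; ring) (X_dot h10 _)] at e3
    have c01 := congrFun (congrFun e3 0) 1
    have c10 := congrFun (congrFun e3 1) 0
    simp [vecMulVec_apply] at c01 c10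
    have hab : 1 + s t * h (-t⁻¹) = 0 := by
      by_contra hne
      simp [sne hu, hne] at c01
    have hst : s t ≠ 0 := sne ht
    have hb : h (-t⁻¹) = -(s t)⁻¹ := by
      generalize h (-t⁻¹) = b at hab
      field_simp
      linear_combination hab
    refine ⟨hb, ?_⟩
    rw [← c10, hb]
    field_simp
  have hhs : ∀ c, h c = s c := by
    intro c
    rcases eq_or_ne c 0 with rfl | hc
    · simp [hh, hzero 1 0 h10, s0]
    have := (hkey 1 c one_ne_zero hc).2
    rw [s1] at this
    simp only [one_pow, div_one, hneg, neg_inj] at this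
    exact this
  have hsq : ∀ t w, s (t ^ 2 * w) = s t ^ 2 * s w := by
    intro t w
    rcases eq_or_ne t 0 with rfl | ht
    · simp [s0]
    rcases eq_or_ne w 0 with rfl | hw
    · simp [s0]
    have := (hkey t (t ^ 2 * w) ht (mul_ne_zero (pow_ne_zero 2 ht) hw)).2
    rw [hneg, hhs, mul_div_cancel_left₀ _ (pow_ne_zero 2 ht), neg_inj] at this
    rw [this]
    field_simp [sne ht]
  have hmul : ∀ a b, s (a * b) = s a * s b := by
    intro a b
    rcases eq_or_ne (2 : F) 0 with h2 | h2
    · have : CharP F 2 := CharTwo.of_one_ne_zero_of_two_eq_zero one_ne_zero h2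
      have := Fintype.ofFinite F
      obtain ⟨r, rfl⟩ := FiniteField.isSquare_of_char_two (ringChar.eq F 2) a
      rw [← sq, hsq]
      have := hsq r 1
      rw [mul_one, s1, mul_one] at this
      rw [this]
    · have e1 := hsq (a + 1) b
      rw [show (a + 1) ^ 2 * b = a ^ 2 * b + (a * b + a * b) + b by ring, sadd, sadd, sadd, hsq, sadd, s1] at e1
      refine mul_left_cancel₀ h2 ?_
      linear_combination e1
  let σ : F ≃+* F :=
    { Equiv.ofBijective s ⟨sinj, Finite.injective_iff_surjective.1 sinj⟩ with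
      map_mul' := hmul, map_add' := sadd }
  refine ⟨(diagGL d)⁻¹, σ, ?_⟩
  have : δ (diagGL d) * α = fld σ := aut_ext_X fun i j hij c => by
    rw [fld_X σ hij]
    fin_cases i <;> fin_cases j
    · exact absurd rfl hij
    · exact hβ01 c
    · exact (hβ10 c).trans (congrArg _ (hhs c))
    · exact absurd rfl hij
  rw [map_inv, ← this, inv_mul_cancel_left]

/-- Every automorphism of `PSL_n(F)` is `δ g * fld σ * e` with `e = 1` or (for `n ≥ 3`) inverse-transpose. -/
theorem decomp [Finite F] (hn : 2 ≤ n) (α : MulAut PSLn) :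
    ∃ (g : GL (Fin n) F) (σ : F ≃+* F) (e : MulAut PSLn), (e = 1 ∨ e = it ∧ 3 ≤ n) ∧ α = δ g * fld σ * e := by
  obtain ⟨e, g, f, he, hf⟩ := exists_frame hn α
  have key : ∃ (g' : GL (Fin n) F) (σ : F ≃+* F), δ g⁻¹ * (α * e) = δ g' * fld σ := by
    rcases eq_or_lt_of_le hn with rfl | hn3
    · exact normalize_two _ f (fun i j h => (hf i j h).1) (fun i j h => (hf i j h).2.1) fun i j h => (hf i j h).2.2
    · exact normalize_big hn3 _ f (fun i j h => (hf i j h).1) (fun i j h => (hf i j h).2.1) fun i j h => (hf i j h).2.2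
  obtain ⟨g', σ, hσ⟩ := key
  refine ⟨g * g', σ, e, he, ?_⟩
  have hee : e * e = 1 := by
    rcases he with rfl | ⟨rfl, -⟩
    · exact mul_one 1
    · exact it_mul_self
  rw [map_mul, mul_assoc (δ g), ← hσ, ← mul_assoc (δ g), ← map_mul, mul_inv_cancel, map_one, one_mul, mul_assoc, hee,
    mul_one]

theorem mem_center_iff_scalar (g : GL (Fin n) F) :
    g ∈ Subgroup.center (GL (Fin n) F) ↔ ∃ u : Fˣ, GeneralLinearGroup.scalar (Fin n) u = g := by
  rw [Matrix.GeneralLinearGroup.center_eq_range_scalar]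
  rfl

/-- A matrix fixing every root element up to a field automorphism is scalar and the field automorphism trivial. -/
theorem δ_fld_eq_one (hn : 2 ≤ n) {g : GL (Fin n) F} {σ : F ≃+* F} (h : (δ g * fld σ : MulAut PSLn) = 1) :
    g ∈ Subgroup.center (GL (Fin n) F) ∧ σ = 1 := by
  have : NeZero n := ⟨by omega⟩
  have key : ∀ i j, i ≠ j → ∀ c : F, ∀ r s,
      σ c * (g : Mn) r i * ((g⁻¹ : GL (Fin n) F) : Mn) j s = if r = i ∧ s = j then c else 0 := by
    intro i j hij c r s
    have h1 := DFunLike.congr_fun h (X i j c)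
    rw [MulAut.mul_apply, MulAut.one_apply, fld_X σ hij, X, δ_mk, (conjSL_tv g (X_dot hij _)).1, X,
      mk_tv_eq_iff (conjSL_tv g (X_dot hij _)).2 (X_dot hij c)] at h1
    have h2 := congrFun (congrFun h1 r) s
    simp [vecMulVec_apply, Matrix.mulVec_single, Pi.single_apply] at h2
    rw [Matrix.coe_units_inv, h2]
    split_ifs <;> simp_all
  have hdiag : ∀ r i, r ≠ i → (g : Mn) r i = 0 := by
    intro r i hri
    obtain ⟨j, hj⟩ : ∃ j, i ≠ j := ⟨r, hri.symm⟩
    have h1 := key i j hj 1 r j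
    have h2 := key i j hj 1 i j
    simp [hri] at h1 h2
    rcases h1 with h1 | h1
    · exact h1
    · simp [h1] at h2
  have hone : ∀ i j, i ≠ j → (g : Mn) i i * ((g⁻¹ : GL (Fin n) F) : Mn) j j = 1 := by
    intro i j hij
    simpa using key i j hij 1 i j
  have hjj : ∀ j, (g : Mn) j j * ((g⁻¹ : GL (Fin n) F) : Mn) j j = 1 := by
    intro j
    have h1 := congrFun (congrFun (Units.mul_inv g) j) j
    rw [Matrix.mul_apply, Finset.sum_eq_single j] at h1
    · simpa using h1
    · intro k _ hk; rw [hdiag j k hk.symm, zero_mul]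
    · simp
  have heq : ∀ i j, (g : Mn) i i = (g : Mn) j j := by
    intro i j
    rcases eq_or_ne i j with rfl | hij
    · rfl
    exact mul_right_cancel₀ (right_ne_zero_of_mul (by rw [hjj j]; exact one_ne_zero)) ((hone i j hij).trans (hjj j).symm)
  refine ⟨(mem_center_iff_scalar g).2 ⟨Units.mk0 ((g : Mn) 0 0) (left_ne_zero_of_mul (by rw [hjj 0]; exact one_ne_zero)), Units.ext ?_⟩, ?_⟩
  · ext r s
    rcases eq_or_ne r s with rfl | hrs
    · simp [heq r 0]
    · simp [hrs, hdiag r s hrs]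
  · ext c
    have hij : (⟨0, by omega⟩ : Fin n) ≠ ⟨1, by omega⟩ := by simp [Fin.ext_iff]
    have := key _ _ hij c ⟨0, by omega⟩ ⟨1, by omega⟩
    rw [mul_assoc, hone _ _ hij] at this
    simpa using this

theorem ker_δ (hn : 2 ≤ n) : (δ : GL (Fin n) F →* MulAut PSLn).ker = Subgroup.center (GL (Fin n) F) := by
  refine le_antisymm (fun g hg => (δ_fld_eq_one hn (σ := 1) (by rw [map_one, mul_one]; exact hg)).1) ?_
  intro g hg
  obtain ⟨u, rfl⟩ := (mem_center_iff_scalar g).1 hg
  refine MulEquiv.ext fun x => ?_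
  induction x using QuotientGroup.induction_on with
  | H s =>
    refine congrArg _ (Subtype.ext ?_)
    change ((conjSL _ s : SLn) : Mn) = (s : Mn)
    have h2 := congrArg Units.val (Subgroup.mem_center_iff.1 hg (Matrix.SpecialLinearGroup.toGL s))
    rw [Units.val_mul, Units.val_mul] at h2
    rw [conjSL_coe]
    calc _ = ((s : Mn) * (GeneralLinearGroup.scalar (Fin n) u : GL (Fin n) F)) * _ := congrArg (· * _) h2.symm
      _ = _ := by rw [mul_assoc, Units.mul_inv, mul_one]

/-- For `n ≥ 3` inverse-transpose is not of the form `δ g * fld σ`. -/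
theorem δ_fld_ne_it (hn : 3 ≤ n) (g : GL (Fin n) F) (σ : F ≃+* F) : (δ g * fld σ : MulAut PSLn) ≠ it := by
  have : NeZero n := ⟨by omega⟩
  intro h
  have key : ∀ i j, i ≠ j → ∀ r s,
      (g : Mn) r i * ((g⁻¹ : GL (Fin n) F) : Mn) j s = if r = j ∧ s = i then -1 else 0 := by
    intro i j hij r s
    have h1 := DFunLike.congr_fun h (X i j 1)
    rw [MulAut.mul_apply, it_X hij, fld_X σ hij, map_one, X, δ_mk, (conjSL_tv g (X_dot hij _)).1, X,
      mk_tv_eq_iff (conjSL_tv g (X_dot hij _)).2 (X_dot hij.symm _)] at h1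
    have h2 := congrFun (congrFun h1 r) s
    simp [vecMulVec_apply, Matrix.mulVec_single, Pi.single_apply] at h2
    rw [Matrix.coe_units_inv, h2]
    split_ifs <;> simp_all
  obtain ⟨j, hj0, -⟩ := third hn (0 : Fin n) 0
  obtain ⟨k, hk0, hkj⟩ := third hn (0 : Fin n) j
  have h1 := key 0 j hj0.symm j 0
  have h2 := key 0 k hk0.symm j 0
  have h3 := key 0 k hk0.symm k 0
  simp [hkj.symm] at h1 h2 h3
  rcases h2 with h2 | h2
  · simp [h2] at h1
  · simp [h2] at h3

end CfsgLib.KnownB.PSLAut
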