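import Mathlib
import Cfsg.Prelude.Def_LieTypeDatum
import Cfsg.Agent.Lib.Classical.Order

/-!
The standard automorphisms of `PSL_n(F)`: conjugation by `GL_n`, field automorphisms, inverse-transpose;
and the predicates of `Def_LieTypeDatum` expressed through them.
-/

set_option autoImplicit false

namespace CfsgLib.KnownB.PSLAut

open Matrix

/-- An automorphism of a group acts on the quotient by the centre. -/
noncomputable def descend {G : Type*} [Group G] : MulAut G →* MulAut (G ⧸ Subgroup.center G) where
  toFun e := QuotientGroup.congr _ _ e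
    ((Subgroup.characteristic_iff_map_eq.1 inferInstance) e)
  map_one' := by
    ext x
    induction x using QuotientGroup.induction_on
    rfl
  map_mul' a b := by
    ext x
    induction x using QuotientGroup.induction_on
    rfl

@[simp] theorem descend_mk {G : Type*} [Group G] (e : MulAut G) (g : G) :
    descend e (QuotientGroup.mk g) = QuotientGroup.mk (e g) := rfl

variable {n : ℕ} {F : Type*} [Field F]

local notation "SLn" => Matrix.SpecialLinearGroup (Fin n) F
local notation "PSLn" => Matrix.ProjectiveSpecialLinearGroup (Fin n) F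
local notation "Mn" => Matrix (Fin n) (Fin n) F

/-- Conjugation of `SL` by an element of `GL`. -/
def conjSL : GL (Fin n) F →* MulAut SLn where
  toFun g :=
    { toFun := fun s => ⟨(g : Mn) * (s : Mn) * ((g⁻¹ : GL (Fin n) F) : Mn), by
        rw [Matrix.det_mul_comm, ← mul_assoc, Units.inv_mul, one_mul]; exact s.2⟩
      invFun := fun s => ⟨((g⁻¹ : GL (Fin n) F) : Mn) * (s : Mn) * (g : Mn), by
        rw [Matrix.det_mul_comm, ← mul_assoc, Units.mul_inv, one_mul]; exact s.2⟩
      left_inv := fun s => Subtype.ext <| by simp [mul_assoc]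
      right_inv := fun s => Subtype.ext <| by simp [mul_assoc]
      map_mul' := fun s t => Subtype.ext <| by
        show (g : Mn) * ((s : Mn) * (t : Mn)) * _ = ((g : Mn) * (s : Mn) * _) * ((g : Mn) * (t : Mn) * _)
        simp [mul_assoc] }
  map_one' := by
    refine MulEquiv.ext fun s => Subtype.ext ?_
    show ((1 : GL (Fin n) F) : Mn) * (s : Mn) * _ = (s : Mn)
    simp
  map_mul' g h := by
    refine MulEquiv.ext fun s => Subtype.ext ?_
    show ((g * h : GL (Fin n) F) : Mn) * (s : Mn) * _ =
      (g : Mn) * ((h : Mn) * (s : Mn) * ((h⁻¹ : GL (Fin n) F) : Mn)) * _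
    simp [mul_assoc]

@[simp] theorem conjSL_coe (g : GL (Fin n) F) (s : SLn) :
    ((conjSL g s : SLn) : Mn) = (g : Mn) * (s : Mn) * ((g⁻¹ : GL (Fin n) F) : Mn) := rfl

/-- A field automorphism applied entrywise to `SL`. -/
def fieldSL : (F ≃+* F) →* MulAut SLn where
  toFun σ :=
    { toFun := Matrix.SpecialLinearGroup.map (σ : F →+* F)
      invFun := Matrix.SpecialLinearGroup.map (σ.symm : F →+* F)
      left_inv := fun s => by ext i j; simp
      right_inv := fun s => by ext i j; simp
      map_mul' := map_mul _ }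
  map_one' := by
    refine MulEquiv.ext fun s => ?_
    ext i j
    simp
  map_mul' σ τ := by
    refine MulEquiv.ext fun s => ?_
    ext i j
    simp

@[simp] theorem fieldSL_coe (σ : F ≃+* F) (s : SLn) :
    ((fieldSL σ s : SLn) : Mn) = (s : Mn).map σ := rfl

theorem transpose_mul_SL (s t : SLn) : Matrix.SpecialLinearGroup.transpose (s * t) =
    Matrix.SpecialLinearGroup.transpose t * Matrix.SpecialLinearGroup.transpose s :=
  Subtype.ext (Matrix.transpose_mul _ _)

theorem transpose_one_SL : Matrix.SpecialLinearGroup.transpose (1 : SLn) = 1 :=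
  Subtype.ext Matrix.transpose_one

theorem transpose_inv_SL (s : SLn) :
    (Matrix.SpecialLinearGroup.transpose s)⁻¹ = Matrix.SpecialLinearGroup.transpose s⁻¹ := by
  refine inv_eq_of_mul_eq_one_right ?_
  rw [← transpose_mul_SL, inv_mul_cancel, transpose_one_SL]

theorem transpose_transpose_SL (s : SLn) :
    Matrix.SpecialLinearGroup.transpose (Matrix.SpecialLinearGroup.transpose s) = s :=
  Subtype.ext (Matrix.transpose_transpose _)

theorem it_invol (s : SLn) :
    Matrix.SpecialLinearGroup.transpose (Matrix.SpecialLinearGroup.transpose s⁻¹)⁻¹ = s := by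
  rw [transpose_inv_SL, inv_inv, transpose_transpose_SL]

/-- The inverse-transpose automorphism of `SL`. -/
def itSL : MulAut SLn where
  toFun s := Matrix.SpecialLinearGroup.transpose s⁻¹
  invFun s := Matrix.SpecialLinearGroup.transpose s⁻¹
  left_inv := it_invol
  right_inv := it_invol
  map_mul' s t := by rw [_root_.mul_inv_rev, transpose_mul_SL]

@[simp] theorem itSL_apply (s : SLn) : itSL s = Matrix.SpecialLinearGroup.transpose s⁻¹ := rfl

theorem inv_coe_GL (s : SLn) : ((s⁻¹ : SLn) : Mn) = (((Matrix.SpecialLinearGroup.toGL s)⁻¹ : GL (Fin n) F) : Mn) := by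
  rw [← map_inv]; rfl

/-- Conjugation of `PSL` by an element of `GL`. -/
noncomputable def δ : GL (Fin n) F →* MulAut PSLn := descend.comp conjSL

/-- The standard field automorphisms of `PSL`. -/
noncomputable def fld : (F ≃+* F) →* MulAut PSLn := descend.comp fieldSL

/-- The inverse-transpose automorphism of `PSL`. -/
noncomputable def it : MulAut PSLn := descend itSL

@[simp] theorem δ_mk (g : GL (Fin n) F) (s : SLn) :
    δ g (QuotientGroup.mk s) = QuotientGroup.mk (conjSL g s) := rfl

@[simp] theorem fld_mk (σ : F ≃+* F) (s : SLn) :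
    fld σ (QuotientGroup.mk s : PSLn) = QuotientGroup.mk (fieldSL σ s) := rfl

@[simp] theorem it_mk (s : SLn) : it (QuotientGroup.mk s : PSLn) = QuotientGroup.mk (itSL s) := rfl

theorem it_mul_self : (it : MulAut PSLn) * it = 1 := by
  refine MulEquiv.ext fun x => ?_
  induction x using QuotientGroup.induction_on with
  | H s =>
    show QuotientGroup.mk (itSL (itSL s)) = _
    exact congrArg _ (itSL.left_inv s)

theorem fld_δ (σ : F ≃+* F) (g : GL (Fin n) F) :
    fld σ * δ g = δ (Matrix.GeneralLinearGroup.map (σ : F →+* F) g) * fld σ := by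
  refine MulEquiv.ext fun x => ?_
  induction x using QuotientGroup.induction_on with
  | H s =>
    refine congrArg _ (Subtype.ext ?_)
    change ((g : Mn) * (s : Mn) * ((g⁻¹ : GL (Fin n) F) : Mn)).map (σ : F →+* F) = _
    rw [Matrix.map_mul, Matrix.map_mul]
    rfl

/-- Transpose-inverse of an element of `GL`. -/
def itGL (g : GL (Fin n) F) : GL (Fin n) F where
  val := ((g⁻¹ : GL (Fin n) F) : Mn).transpose
  inv := (g : Mn).transpose
  val_inv := by rw [← Matrix.transpose_mul, Units.mul_inv, Matrix.transpose_one]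
  inv_val := by rw [← Matrix.transpose_mul, Units.inv_mul, Matrix.transpose_one]

theorem itGL_coe (g : GL (Fin n) F) : (itGL g : Mn) = ((g⁻¹ : GL (Fin n) F) : Mn).transpose := rfl

theorem itGL_inv_coe (g : GL (Fin n) F) : (((itGL g)⁻¹ : GL (Fin n) F) : Mn) = (g : Mn).transpose := rfl

theorem itGL_mul (g h : GL (Fin n) F) : itGL (g * h) = itGL g * itGL h := by
  refine Units.ext ?_
  simp [itGL_coe, Matrix.transpose_mul]

theorem itGL_itGL (g : GL (Fin n) F) : itGL (itGL g) = g := by
  refine Units.ext ?_
  rw [itGL_coe, itGL_inv_coe, Matrix.transpose_transpose]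

theorem it_δ (g : GL (Fin n) F) : it * δ g = δ (itGL g) * it := by
  refine MulEquiv.ext fun x => ?_
  induction x using QuotientGroup.induction_on with
  | H s =>
    refine congrArg _ (Subtype.ext ?_)
    change (((conjSL g s)⁻¹ : SLn) : Mn).transpose =
      (itGL g : Mn) * ((s⁻¹ : SLn) : Mn).transpose * (((itGL g)⁻¹ : GL (Fin n) F) : Mn)
    rw [← map_inv, conjSL_coe, itGL_coe, itGL_inv_coe, Matrix.transpose_mul, Matrix.transpose_mul, mul_assoc]

theorem it_fld (σ : F ≃+* F) : (it : MulAut PSLn) * fld σ = fld σ * it := by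
  refine MulEquiv.ext fun x => ?_
  induction x using QuotientGroup.induction_on with
  | H s =>
    refine congrArg _ (Subtype.ext ?_)
    change (((fieldSL σ s)⁻¹ : SLn) : Mn).transpose = (((s⁻¹ : SLn) : Mn).transpose).map σ
    rw [← map_inv, fieldSL_coe, Matrix.transpose_map]

theorem isInducedBySemilinearPSL_iff (g : GL (Fin n) F) (σ : F ≃+* F) (β : MulAut PSLn) :
    Cfsg.IsInducedBySemilinearPSL g σ β ↔ β = δ g * fld σ := by
  constructor
  · intro h
    refine MulEquiv.ext fun x => ?_
    induction x using QuotientGroup.induction_on with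
    | H s => exact h s (conjSL g (fieldSL σ s)) rfl
  · rintro rfl s s' hs
    exact congrArg _ (Subtype.ext hs.symm)

theorem isInnerDiagonalAutPSL_iff (β : MulAut PSLn) :
    Cfsg.IsInnerDiagonalAutPSL β ↔ ∃ g : GL (Fin n) F, β = δ g := by
  constructor
  · rintro ⟨g, h⟩
    refine ⟨g, MulEquiv.ext fun x => ?_⟩
    induction x using QuotientGroup.induction_on with
    | H s => exact h s (conjSL g s) rfl
  · rintro ⟨g, rfl⟩
    exact ⟨g, fun s s' hs => congrArg _ (Subtype.ext hs.symm)⟩

theorem isStdFieldAutPSL_iff (σ : F ≃+* F) (β : MulAut PSLn) :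
    Cfsg.IsStdFieldAutPSL σ β ↔ β = fld σ := by
  constructor
  · intro h
    refine MulEquiv.ext fun x => ?_
    induction x using QuotientGroup.induction_on with
    | H s => exact h s (fieldSL σ s) rfl
  · rintro rfl s s' hs
    exact congrArg _ (Subtype.ext hs.symm)

theorem isInverseTransposeAutPSL_iff (β : MulAut PSLn) :
    Cfsg.IsInverseTransposeAutPSL β ↔ β = it := by
  constructor
  · intro h
    refine MulEquiv.ext fun x => ?_
    induction x using QuotientGroup.induction_on with
    | H s => exact h s (itSL s) rfl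
  · rintro rfl s s' hs
    exact congrArg _ (Subtype.ext hs.symm)

theorem inndiagPSL_eq : Cfsg.inndiagPSL n F = (δ : GL (Fin n) F →* MulAut PSLn).range := by
  refine le_antisymm ((Subgroup.closure_le _).2 ?_) ?_
  · intro β hβ
    obtain ⟨g, rfl⟩ := (isInnerDiagonalAutPSL_iff β).1 hβ
    exact ⟨g, rfl⟩
  · rintro _ ⟨g, rfl⟩
    exact Subgroup.subset_closure ((isInnerDiagonalAutPSL_iff _).2 ⟨g, rfl⟩)

theorem inn_eq : Cfsg.Inn PSLn =
    ((δ : GL (Fin n) F →* MulAut PSLn).comp Matrix.SpecialLinearGroup.toGL).range := by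
  have key : ∀ s : SLn, MulAut.conj (QuotientGroup.mk s : PSLn) = δ (Matrix.SpecialLinearGroup.toGL s) := by
    intro s
    refine MulEquiv.ext fun x => ?_
    induction x using QuotientGroup.induction_on with
    | H t =>
      rw [MulAut.conj_apply, δ_mk, ← QuotientGroup.mk_inv, ← QuotientGroup.mk_mul, ← QuotientGroup.mk_mul]
      refine congrArg _ (Subtype.ext ?_)
      rw [Matrix.SpecialLinearGroup.coe_mul, Matrix.SpecialLinearGroup.coe_mul, inv_coe_GL]
      rfl
  ext β
  constructor
  · rintro ⟨x, rfl⟩
    induction x using QuotientGroup.induction_on with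
    | H s => exact ⟨s, (key s).symm⟩
  · rintro ⟨s, rfl⟩
    exact ⟨QuotientGroup.mk s, key s⟩

end CfsgLib.KnownB.PSLAut
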