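import Cfsg.Agent.Lib.KnownB.PSLAut.Unip

/-!
Every automorphism of `PSL_n(F)` is a product of a conjugation, a field automorphism and possibly inverse-transpose.
-/

set_option autoImplicit false

namespace CfsgLib.KnownB.PSLAut

open Matrix
open scoped commutatorElement

variable {n : ℕ} {F : Type*} [Field F]

local notation "SLn" => Matrix.SpecialLinearGroup (Fin n) F
local notation "PSLn" => Matrix.ProjectiveSpecialLinearGroup (Fin n) F
local notation "Mn" => Matrix (Fin n) (Fin n) F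
local notation "Vn" => (Fin n → F)

/-- The permutation matrix of `π`, as an element of `GL`. -/
def permGL (π : Equiv.Perm (Fin n)) : GL (Fin n) F where
  val := Matrix.of fun r s => if r = π s then 1 else 0
  inv := Matrix.of fun r s => if r = π.symm s then 1 else 0
  val_inv := by
    ext r s
    simp only [Matrix.mul_apply, Matrix.of_apply, Matrix.one_apply]
    rw [Finset.sum_eq_single (π.symm s)] <;> simp +contextual
  inv_val := by
    ext r s
    simp only [Matrix.mul_apply, Matrix.of_apply, Matrix.one_apply]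
    rw [Finset.sum_eq_single (π s)] <;> simp +contextual

theorem δ_permGL_X (π : Equiv.Perm (Fin n)) {i j : Fin n} (h : i ≠ j) (c : F) :
    δ (permGL π) (X i j c : PSLn) = X (π i) (π j) c := by
  rw [X, δ_mk, (conjSL_tv _ (X_dot h c)).1, X]
  congr 2
  · funext r
    simp [Matrix.mulVec_single, permGL, Pi.single_apply]
  · funext r
    simp [permGL, Pi.single_apply, Equiv.eq_symm_apply, eq_comm]

theorem X_ne_one [NeZero n] {i j : Fin n} (h : i ≠ j) {c : F} (hc : c ≠ 0) : (X i j c : PSLn) ≠ 1 := by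
  intro h1
  refine hc (X_injective h ?_)
  have h0 : (X i j (0 : F) : PSLn) = 1 := by
    have := X_add h (0 : F) 0
    rw [add_zero] at this
    exact left_eq_mul.1 this
  rw [h1, h0]

theorem X_eq_X [NeZero n] {i j k l : Fin n} (hij : i ≠ j) (hkl : k ≠ l) {c d : F} (hc : c ≠ 0)
    (h : (X i j c : PSLn) = X k l d) : i = k ∧ j = l := by
  rw [X, X, mk_tv_eq_iff (X_dot hij c) (X_dot hkl d)] at h
  have := congrFun (congrFun h i) j
  simp only [vecMulVec_apply, Pi.single_eq_same, mul_one, Pi.single_apply] at this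
  by_contra hne
  rcases Classical.em (i = k) with h1 | h1 <;> rcases Classical.em (j = l) with h2 | h2 <;> simp_all

/-- Image of a root group: a full transvection group. -/
theorem image_root [Finite F] (α : MulAut PSLn) {i j : Fin n} (hij : i ≠ j) :
    ∃ (v φ : Vn) (f : F → F), φ ⬝ᵥ v = 0 ∧ v ≠ 0 ∧ φ ≠ 0 ∧ Function.Bijective f ∧
      ∀ c : F, α (X i j c) = QuotientGroup.mk (tv (f c • v) φ) := by
  have hn : 2 ≤ n := by
    rcases n with _ | _ | n
    · exact i.elim0
    · exact absurd (Fin.ext (by omega)) hij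
    · omega
  have : NeZero n := ⟨by omega⟩
  let a : Fin n := ⟨0, by omega⟩
  let b : Fin n := ⟨n - 1, by omega⟩
  have hab : a ≠ b := by simp [a, b, Fin.ext_iff]; omega
  let π : Equiv.Perm (Fin n) := Equiv.swap (Equiv.swap a i b) j * Equiv.swap a i
  have hπb : π b = j := by simp [π]
  have hπa : π a = i := by
    simp only [π, Equiv.Perm.mul_apply, Equiv.swap_apply_left]
    refine Equiv.swap_apply_of_ne_of_ne (fun h => ?_) hij
    exact hab ((Equiv.swap a i).injective (by rw [Equiv.swap_apply_left]; exact h))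
  obtain ⟨v, φ, hdot, hv, hφ, hd⟩ := image_top (α * δ (permGL π)) (a := a) (b := b) rfl rfl hab
  choose f hf using hd
  have hf' : ∀ c, α (X i j c) = QuotientGroup.mk (tv (f c • v) φ) := fun c => by
    rw [← hf, MulAut.mul_apply, δ_permGL_X _ hab, hπa, hπb]
  have hinj : Function.Injective f := fun x y h => X_injective hij (α.injective (by rw [hf', hf', h]))
  exact ⟨v, φ, f, hdot, hv, hφ, ⟨hinj, Finite.injective_iff_surjective.1 hinj⟩, hf'⟩

theorem dot_smul_zero {v φ : Vn} (h : φ ⬝ᵥ v = 0) (d : F) : φ ⬝ᵥ (d • v) = 0 := by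
  rw [dotProduct_smul, h, smul_zero]

/-- Root groups sharing the first index have images sharing a point or a hyperplane. -/
theorem share [Finite F] (β : MulAut PSLn) {i j k : Fin n} (hij : i ≠ j) (hik : i ≠ k) (hjk : j ≠ k)
    {v φ w ψ : Vn} (hvφ : φ ⬝ᵥ v = 0) (hwψ : ψ ⬝ᵥ w = 0) (hψ : ψ ≠ 0) (hw : w ≠ 0)
    {a b : F} (ha : a ≠ 0) (hb : b ≠ 0) {c : F}
    (h1 : β (X i j c) = QuotientGroup.mk (tv (a • v) φ)) (h2 : β (X i k c) = QuotientGroup.mk (tv (b • w) ψ)) :
    (∃ s : F, v = s • w) ∨ ∃ s : F, φ = s • ψ := by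
  have : NeZero n := ⟨by have := i.2; omega⟩
  set t : SLn := tv (Pi.single j (-1)) (Pi.single k 1) with ht
  have hprod : (X i j c : PSLn) * X i k c = δ (Matrix.SpecialLinearGroup.toGL t) (X i j c) := by
    rw [← conj_mk_X t]
    rw [X, X, conj_mk, (conjSL_tv _ (X_dot hij c)).1, ← QuotientGroup.mk_mul]
    refine congrArg _ (Subtype.ext ?_)
    have hd : (Pi.single j (1 : F) + Pi.single k 1) ⬝ᵥ Pi.single i c = 0 := by simp [hij, hik, hij.symm, hik.symm]
    rw [Matrix.SpecialLinearGroup.coe_mul, tv_val (X_dot hij c), tv_val (X_dot hik c)]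
    have e1 : ((Matrix.SpecialLinearGroup.toGL t : GL (Fin n) F) : Mn) *ᵥ Pi.single i c = Pi.single i c := by
      show (t : Mn) *ᵥ _ = _
      rw [ht, tv_val (X_dot hjk (-1)), Matrix.add_mulVec, Matrix.one_mulVec, Matrix.vecMulVec_mulVec]
      simp [hik.symm]
    have e2 : Pi.single j (1 : F) ᵥ* (((Matrix.SpecialLinearGroup.toGL t)⁻¹ : GL (Fin n) F) : Mn) =
        Pi.single j 1 + Pi.single k 1 := by
      rw [← inv_coe_GL, ht, tv_inv (X_dot hjk (-1)), tv_val (by simp [hjk]), Matrix.vecMul_add, Matrix.vecMul_one,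
        Matrix.vecMul_vecMulVec]
      simp
    rw [e1, e2, tv_val hd, Matrix.vecMulVec_add]
    simp only [mul_add, add_mul, one_mul, mul_one, vecMulVec_mul_vecMulVec]
    simp [hij, hij.symm, hik, hik.symm]
    abel
  obtain ⟨u, χ, g, huχ, -, -, -, hg⟩ := image_root (β * δ (Matrix.SpecialLinearGroup.toGL t)) hij
  have h3 : (QuotientGroup.mk (tv (a • v) φ * tv (b • w) ψ) : PSLn) = QuotientGroup.mk (tv (g c • u) χ) := by
    rw [QuotientGroup.mk_mul, ← h1, ← h2, ← map_mul, hprod, ← MulAut.mul_apply, hg]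
  have hav := dot_smul_zero hvφ a
  have hbw := dot_smul_zero hwψ b
  have hgu := dot_smul_zero huχ (g c)
  have hcomm : Commute (tv (a • v) φ) (tv (b • w) ψ) → (∃ s : F, v = s • w) ∨ ∃ s : F, φ = s • ψ := by
    intro hc
    have hc' : Commute (QuotientGroup.mk (tv (a • v) φ) : PSLn) (QuotientGroup.mk (tv (b • w) ψ)) :=
      hc.map (QuotientGroup.mk' _)
    rw [commute_mk_tv_iff hav hbw] at hc'
    rw [QuotientGroup.eq] at h3
    obtain ⟨r, -, hr⟩ := Matrix.SpecialLinearGroup.mem_center_iff.1 h3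
    have h4 : ((tv (g c • u) χ : SLn) : Mn) = r • ((tv (a • v) φ * tv (b • w) ψ : SLn) : Mn) := by
      have h5 : tv (g c • u) χ = (tv (a • v) φ * tv (b • w) ψ) *
          ((tv (a • v) φ * tv (b • w) ψ)⁻¹ * tv (g c • u) χ) := (mul_inv_cancel_left _ _).symm
      rw [h5, Matrix.SpecialLinearGroup.coe_mul, ← hr, Matrix.scalar_apply, ← Matrix.smul_one_eq_diagonal,
        mul_smul_comm, mul_one]
    rw [Matrix.SpecialLinearGroup.coe_mul, tv_val hav, tv_val hbw, tv_val hgu] at h4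
    rcases eq_or_ne (φ ⬝ᵥ (b • w)) 0 with h0 | h0
    · rw [h0, zero_smul] at hc'
      have h6 : ψ ⬝ᵥ (a • v) = 0 ∨ vecMulVec (b • w) φ = 0 := smul_eq_zero.1 hc'.symm
      have hzz : vecMulVec (a • v) φ * vecMulVec (b • w) ψ = 0 := by
        rw [vecMulVec_mul_vecMulVec, h0, zero_smul, Matrix.vecMulVec_zero]
      have hzz' : vecMulVec (b • w) ψ * vecMulVec (a • v) φ = 0 := by
        rcases h6 with h6 | h6
        · rw [vecMulVec_mul_vecMulVec, h6, zero_smul, Matrix.vecMulVec_zero]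
        · rcases vmv_eq_zero.1 h6 with h6 | h6
          · exact absurd ((smul_eq_zero.1 h6).resolve_left hb) hw
          · rw [h6, Matrix.vecMulVec_zero, mul_zero]
      set N := vecMulVec (a • v) φ
      set M := vecMulVec (b • w) ψ
      have h7 : (1 : Mn) + vecMulVec (g c • u) χ = r • (1 + (N + M)) := by
        rw [h4]
        simp only [mul_add, add_mul, mul_one, one_mul, hzz, add_zero, add_assoc]
      have h8 := (scalar_rigid (vmv_mul_self hgu) (by
        rw [add_mul, mul_add, mul_add, hzz, hzz', vmv_mul_self hav, vmv_mul_self hbw]; simp) h7).2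
      rcases vmv_add_rank_one hψ (smul_ne_zero hb hw) h8.symm with ⟨s, hs⟩ | hs
      · refine Or.inl ⟨a⁻¹ * (s * b), ?_⟩
        rw [mul_smul, mul_smul, ← hs, inv_smul_smul₀ ha]
      · exact Or.inr hs
    · left
      have h9 : (φ ⬝ᵥ (b • w)) • vecMulVec (a • v) ψ = (ψ ⬝ᵥ (a • v)) • vecMulVec (b • w) φ := hc'
      obtain ⟨k', hk'⟩ := Function.ne_iff.1 hψ
      refine ⟨a⁻¹ * ((φ ⬝ᵥ (b • w))⁻¹ * (ψ ⬝ᵥ (a • v)) * (φ k' / ψ k') * b), funext fun r' => ?_⟩
      have h10 := congrFun (congrFun h9 r') k'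
      simp only [Matrix.smul_apply, vecMulVec_apply, smul_eq_mul, Pi.smul_apply] at h10
      simp only [Pi.smul_apply, smul_eq_mul]
      simp only [Pi.zero_apply] at hk'
      field_simp
      linear_combination h10
  refine hcomm ?_
  have hc0 : Commute (X i j c : PSLn) (X i k c) := by
    rw [X, X, commute_mk_tv_iff (X_dot hij c) (X_dot hik c)]
    simp [hij, hik, hij.symm, hik.symm]
  have hc1 := hc0.map β
  rw [h1, h2] at hc1
  rw [commute_mk_tv_iff hav hbw] at hc1
  refine Subtype.ext ?_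
  simp only [Matrix.SpecialLinearGroup.coe_mul, tv_val hav, tv_val hbw, mul_add, add_mul, one_mul, mul_one,
    vecMulVec_mul_vecMulVec, Matrix.vecMulVec_smul]
  rw [hc1]
  abel
where
  conj_mk_X (t : SLn) : (QuotientGroup.mk t : PSLn) * X i j c * (QuotientGroup.mk t)⁻¹ =
      δ (Matrix.SpecialLinearGroup.toGL t) (X i j c) := by rw [X, δ_mk, conj_mk]

/-- Two equivalence relations covering all pairs and meeting in equality: one of them is total. -/
theorem two_rel {S : Type*} (P H : S → S → Prop) (hPs : ∀ {x y}, P x y → P y x) (hHs : ∀ {x y}, H x y → H y x)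
    (hPt : ∀ {x y z}, P x y → P y z → P x z) (hHt : ∀ {x y z}, H x y → H y z → H x z)
    (hcov : ∀ x y, P x y ∨ H x y) (hmeet : ∀ x y, P x y → H x y → x = y) :
    (∀ x y, P x y) ∨ ∀ x y, H x y := by
  by_contra hc
  push Not at hc
  obtain ⟨⟨j, k, hjk⟩, l, m, hlm⟩ := hc
  have hj : ∀ z, H j z := by
    intro z
    rcases hcov j z with h | h
    · rcases hcov k z with h' | h'
      · exact absurd (hPt h (hPs h')) hjk
      · exact hHt ((hcov j k).resolve_left hjk) h'
    · exact h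
  exact hlm (hHt (hHs (hj l)) (hj m))

/-- A system of images of all root groups. -/
structure Data (α : MulAut PSLn) where
  /-- centres -/
  V : Fin n → Fin n → Vn
  /-- axes -/
  Φ : Fin n → Fin n → Vn
  /-- parameters -/
  f : Fin n → Fin n → F → F
  dot : ∀ i j, i ≠ j → Φ i j ⬝ᵥ V i j = 0
  V0 : ∀ i j, i ≠ j → V i j ≠ 0
  Φ0 : ∀ i j, i ≠ j → Φ i j ≠ 0
  bij : ∀ i j, i ≠ j → Function.Bijective (f i j)
  eq : ∀ i j, i ≠ j → ∀ c, α (X i j c) = QuotientGroup.mk (tv (f i j c • V i j) (Φ i j))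

theorem exists_data [Finite F] (α : MulAut PSLn) : Nonempty (Data α) := by
  classical
  have h : ∀ i j : Fin n, ∃ d : Vn × Vn × (F → F), i ≠ j → d.2.1 ⬝ᵥ d.1 = 0 ∧ d.1 ≠ 0 ∧ d.2.1 ≠ 0 ∧
      Function.Bijective d.2.2 ∧ ∀ c : F, α (X i j c) = QuotientGroup.mk (tv (d.2.2 c • d.1) d.2.1) := by
    intro i j
    by_cases hij : i = j
    · exact ⟨(0, 0, id), fun h => absurd hij h⟩
    · obtain ⟨v, φ, f, h⟩ := image_root α hij
      exact ⟨(v, φ, f), fun _ => h⟩
  choose d hd using h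
  exact ⟨⟨fun i j => (d i j).1, fun i j => (d i j).2.1, fun i j => (d i j).2.2,
    fun i j h => (hd i j h).1, fun i j h => (hd i j h).2.1, fun i j h => (hd i j h).2.2.1,
    fun i j h => (hd i j h).2.2.2.1, fun i j h => (hd i j h).2.2.2.2⟩⟩

/-- The data of `α * it`. -/
def Data.flip {α : MulAut PSLn} (D : Data α) : Data (α * it) where
  V i j := D.V j i
  Φ i j := D.Φ j i
  f i j c := D.f j i (-c)
  dot i j h := D.dot j i h.symm
  V0 i j h := D.V0 j i h.symm
  Φ0 i j h := D.Φ0 j i h.symm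
  bij i j h := (D.bij j i h.symm).comp neg_involutive.bijective
  eq i j h c := by rw [MulAut.mul_apply, it_X h, D.eq j i h.symm]

def Par (v w : Vn) : Prop := ∃ c : F, c ≠ 0 ∧ v = c • w

theorem Par.symm {v w : Vn} (h : Par v w) : Par w v := by
  obtain ⟨c, hc, rfl⟩ := h
  exact ⟨c⁻¹, inv_ne_zero hc, (inv_smul_smul₀ hc w).symm⟩

theorem Par.trans {u v w : Vn} (h : Par u v) (h' : Par v w) : Par u w := by
  obtain ⟨c, hc, rfl⟩ := h
  obtain ⟨d, hd, rfl⟩ := h'
  exact ⟨c * d, mul_ne_zero hc hd, smul_smul _ _ _⟩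

theorem Par.refl (v : Vn) : Par v v := ⟨1, one_ne_zero, (one_smul F v).symm⟩

theorem par_of_smul {v w : Vn} (hv : v ≠ 0) (h : ∃ c : F, v = c • w) : Par v w := by
  obtain ⟨c, rfl⟩ := h
  exact ⟨c, fun h0 => hv (by rw [h0, zero_smul]), rfl⟩

section rows

variable [Finite F] {α : MulAut (Matrix.ProjectiveSpecialLinearGroup (Fin n) F)} (D : Data α)

theorem Data.eq_of_par {i j k l : Fin n} (hij : i ≠ j) (hkl : k ≠ l) (hV : Par (D.V k l) (D.V i j))
    (hΦ : Par (D.Φ k l) (D.Φ i j)) : i = k ∧ j = l := by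
  have : NeZero n := ⟨by have := i.2; omega⟩
  obtain ⟨a, ha, ha'⟩ := hV
  obtain ⟨b, hb, hb'⟩ := hΦ
  obtain ⟨c, hc⟩ := (D.bij i j hij).2 (D.f k l 1 * (a * b))
  have he : α (X k l 1) = α (X i j c) := by
    rw [D.eq k l hkl, D.eq i j hij, hc, mk_tv_eq_iff (dot_smul_zero (D.dot k l hkl) _)
      (dot_smul_zero (D.dot i j hij) _), ha', hb']
    ext r s
    simp [vecMulVec_apply]
    ring
  have := X_eq_X hkl hij one_ne_zero (α.injective he)
  exact ⟨this.1.symm, this.2.symm⟩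

theorem Data.f_ne_zero {i j : Fin n} (hij : i ≠ j) {c : F} (hc : c ≠ 0) : D.f i j c ≠ 0 := by
  have : NeZero n := ⟨by have := i.2; omega⟩
  intro h0
  refine X_ne_one hij hc (α.injective ?_)
  rw [D.eq i j hij, h0, zero_smul, map_one]
  rw [show (tv (0 : Vn) (D.Φ i j) : SLn) = 1 from Subtype.ext (by rw [tv_val (dotProduct_zero _)]; simp)]
  rfl

theorem Data.row_share {i j k : Fin n} (hij : i ≠ j) (hik : i ≠ k) :
    Par (D.V i j) (D.V i k) ∨ Par (D.Φ i j) (D.Φ i k) := by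
  rcases eq_or_ne j k with rfl | hjk
  · exact Or.inl (Par.refl _)
  rcases share α hij hik hjk (D.dot i j hij) (D.dot i k hik) (D.Φ0 i k hik) (D.V0 i k hik)
    (D.f_ne_zero hij one_ne_zero) (D.f_ne_zero hik one_ne_zero) (D.eq i j hij 1) (D.eq i k hik 1) with h | h
  · exact Or.inl (par_of_smul (D.V0 i j hij) h)
  · exact Or.inr (par_of_smul (D.Φ0 i j hij) h)

theorem Data.row (i : Fin n) :
    (∀ j k, i ≠ j → i ≠ k → Par (D.V i j) (D.V i k)) ∨ ∀ j k, i ≠ j → i ≠ k → Par (D.Φ i j) (D.Φ i k) := by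
  rcases two_rel (S := {j : Fin n // i ≠ j}) (fun j k => Par (D.V i j) (D.V i k))
    (fun j k => Par (D.Φ i j) (D.Φ i k)) Par.symm Par.symm Par.trans Par.trans
    (fun j k => D.row_share j.2 k.2) (fun j k h h' => Subtype.ext (D.eq_of_par k.2 j.2 h h').2.symm) with h | h
  · exact Or.inl fun j k hj hk => h ⟨j, hj⟩ ⟨k, hk⟩
  · exact Or.inr fun j k hj hk => h ⟨j, hj⟩ ⟨k, hk⟩

theorem Data.not_both_dot {i j k : Fin n} (hij : i ≠ j) (hjk : j ≠ k) :
    D.Φ i j ⬝ᵥ D.V j k ≠ 0 ∨ D.Φ j k ⬝ᵥ D.V i j ≠ 0 := by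
  have : NeZero n := ⟨by have := i.2; omega⟩
  by_contra hc
  push Not at hc
  have h1 : Commute (α (X i j 1)) (α (X j k 1)) := by
    rw [D.eq i j hij, D.eq j k hjk, commute_mk_tv_iff (dot_smul_zero (D.dot i j hij) _)
      (dot_smul_zero (D.dot j k hjk) _), dot_smul_zero hc.1, dot_smul_zero hc.2]
    simp
  have h2 : Commute (X i j (1 : F) : PSLn) (X j k 1) := by
    simpa [MulAut.inv_apply] using h1.map α⁻¹
  rw [X, X, commute_mk_tv_iff (X_dot hij 1) (X_dot hjk 1)] at h2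
  have h3 := congrFun (congrFun h2 i) k
  simp [vecMulVec_apply, hij, hij.symm, hjk, hjk.symm, Pi.single_apply] at h3

theorem Data.row_col_V {i j k : Fin n} (hij : i ≠ j) (hik : i ≠ k) (hkj : k ≠ j)
    (h : Par (D.V i k) (D.V i j)) (h' : Par (D.V k j) (D.V i j)) : False := by
  obtain ⟨a, -, ha⟩ := h.trans h'.symm
  obtain ⟨b, -, hb⟩ := h'.trans h.symm
  rcases D.not_both_dot hik hkj with h0 | h0
  · exact h0 (by rw [hb]; exact dot_smul_zero (D.dot i k hik) _)
  · exact h0 (by rw [ha]; exact dot_smul_zero (D.dot k j hkj) _)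

theorem Data.row_col_Φ {i j k : Fin n} (hij : i ≠ j) (hik : i ≠ k) (hkj : k ≠ j)
    (h : Par (D.Φ i k) (D.Φ i j)) (h' : Par (D.Φ k j) (D.Φ i j)) : False := by
  obtain ⟨a, -, ha⟩ := h.trans h'.symm
  obtain ⟨b, -, hb⟩ := h'.trans h.symm
  rcases D.not_both_dot hik hkj with h0 | h0
  · exact h0 (by rw [ha, smul_dotProduct, D.dot k j hkj, smul_zero])
  · exact h0 (by rw [hb, smul_dotProduct, D.dot i k hik, smul_zero])

/-- All rows share centres and all columns share axes. -/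
def Data.PointType : Prop :=
  (∀ i j k, i ≠ j → i ≠ k → Par (D.V i j) (D.V i k)) ∧ ∀ j i k, i ≠ j → k ≠ j → Par (D.Φ i j) (D.Φ k j)

theorem third (hn : 3 ≤ n) (i j : Fin n) : ∃ k, k ≠ i ∧ k ≠ j := by
  classical
  obtain ⟨k, -, hk⟩ : ∃ k ∈ (Finset.univ : Finset (Fin n)), k ∉ ({i, j} : Finset (Fin n)) := by
    refine Finset.exists_mem_notMem_of_card_lt_card ?_
    calc ({i, j} : Finset (Fin n)).card ≤ 2 := Finset.card_le_two
      _ < _ := by rw [Finset.card_univ, Fintype.card_fin]; omega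
  simp only [Finset.mem_insert, Finset.mem_singleton, not_or] at hk
  exact ⟨k, hk⟩

theorem Data.pointType_or (hn : 3 ≤ n) : D.PointType ∨ D.flip.PointType := by
  let RV := fun i => ∀ j k, i ≠ j → i ≠ k → Par (D.V i j) (D.V i k)
  let RΦ := fun i => ∀ j k, i ≠ j → i ≠ k → Par (D.Φ i j) (D.Φ i k)
  let CV := fun i => ∀ j k, i ≠ j → i ≠ k → Par (D.V j i) (D.V k i)
  let CΦ := fun i => ∀ j k, i ≠ j → i ≠ k → Par (D.Φ j i) (D.Φ k i)
  have hR : ∀ i, RV i ∨ RΦ i := D.row
  have hC : ∀ i, CV i ∨ CΦ i := D.flip.row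
  have hVV : ∀ i j, i ≠ j → RV i → ¬ CV j := by
    intro i j hij h h'
    obtain ⟨k, hki, hkj⟩ := third hn i j
    exact D.row_col_V hij hki.symm hkj (h k j hki.symm hij) (h' k i hkj.symm hij.symm)
  have hΦΦ : ∀ i j, i ≠ j → RΦ i → ¬ CΦ j := by
    intro i j hij h h'
    obtain ⟨k, hki, hkj⟩ := third hn i j
    exact D.row_col_Φ hij hki.symm hkj (h k j hki.symm hij) (h' k i hkj.symm hij.symm)
  by_cases h0 : ∀ i, RV i
  · refine Or.inl ⟨h0, fun j i k hi hk => ?_⟩
    exact ((hC j).resolve_left (hVV i j hi (h0 i))) i k hi.symm hk.symm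
  · push Not at h0
    obtain ⟨i0, hi0⟩ := h0
    have hall : ∀ i, RΦ i := by
      intro i
      obtain ⟨k, hki, hk0⟩ := third hn i i0
      have hk : CV k := (hC k).resolve_right (hΦΦ i0 k hk0.symm ((hR i0).resolve_left hi0))
      exact (hR i).resolve_left fun h => hVV i k hki.symm h hk
    refine Or.inr ⟨fun i j k hj hk => ?_, fun j i k hi hk => hall j i k hi.symm hk.symm⟩
    exact ((hC i).resolve_right (hΦΦ j i hj.symm (hall j))) j k hj hk

end rows

/-- After an inner-diagonal and possibly inverse-transpose correction every root group is fixed. -/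
theorem exists_frame [Finite F] (hn : 2 ≤ n) (α : MulAut PSLn) :
    ∃ (e : MulAut PSLn) (g : GL (Fin n) F) (f : Fin n → Fin n → F → F), (e = 1 ∨ e = it ∧ 3 ≤ n) ∧
      ∀ i j, i ≠ j → Function.Bijective (f i j) ∧ (∀ a b, f i j (a + b) = f i j a + f i j b) ∧
        ∀ c, (δ g⁻¹ * (α * e)) (X i j c) = X i j (f i j c) := by
  classical
  have : NeZero n := ⟨by omega⟩
  suffices H : ∃ (e : MulAut PSLn) (D : Data (α * e)) (v φ : Fin n → Vn), (e = 1 ∨ e = it ∧ 3 ≤ n) ∧
      (∀ i, φ i ⬝ᵥ v i ≠ 0) ∧ (∀ i j, i ≠ j → φ j ⬝ᵥ v i = 0) ∧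
      ∀ i j, i ≠ j → Par (D.V i j) (v i) ∧ Par (D.Φ i j) (φ j) by
    obtain ⟨e, D, v, φ, he, hd, hz, hpar⟩ := H
    let M : Mn := Matrix.of fun r i => v i r
    let Mi : Mn := Matrix.of fun i r => (φ i ⬝ᵥ v i)⁻¹ * φ i r
    have hMi : Mi * M = 1 := by
      ext i j
      have : (Mi * M) i j = (φ i ⬝ᵥ v i)⁻¹ * (φ i ⬝ᵥ v j) := by
        simp [Mi, M, Matrix.mul_apply, dotProduct, Finset.mul_sum, mul_assoc]
      rw [this]
      rcases eq_or_ne i j with rfl | hij
      · simp [inv_mul_cancel₀ (hd i)]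
      · simp [hz j i hij.symm, hij]
    let g : GL (Fin n) F := ⟨M, Mi, mul_eq_one_comm.1 hMi, hMi⟩
    have key : ∀ i j, i ≠ j → ∃ a : F, a ≠ 0 ∧ ∀ c, δ g⁻¹ ((α * e) (X i j c)) = X i j (D.f i j c * a) := by
      intro i j hij
      obtain ⟨⟨a, ha, ha'⟩, ⟨b, hb, hb'⟩⟩ := hpar i j hij
      refine ⟨a * b * (φ j ⬝ᵥ v j), by simp [ha, hb, hd j], fun c => ?_⟩
      have h1 : δ g (X i j (D.f i j c * (a * b * (φ j ⬝ᵥ v j)))) = (α * e) (X i j c) := by
        rw [X, δ_mk, (conjSL_tv g (X_dot hij _)).1, D.eq i j hij, mk_tv_eq_iff (conjSL_tv g (X_dot hij _)).2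
          (dot_smul_zero (D.dot i j hij) _)]
        ext r s
        simp [g, M, Mi, vecMulVec_apply, ha', hb', Matrix.mulVec_single]
        have := hd j
        field_simp
      rw [← h1, ← MulAut.mul_apply, ← map_mul, inv_mul_cancel, map_one, MulAut.one_apply]
    choose! a ha ha' using key
    refine ⟨e, g, fun i j c => D.f i j c * a i j, he, fun i j hij => ?_⟩
    have hX : ∀ c, (δ g⁻¹ * (α * e)) (X i j c) = X i j (D.f i j c * a i j) := ha' i j hij
    refine ⟨(mul_left_injective₀ (ha i j hij) |>.comp (D.bij i j hij).1 |> fun h => ⟨h, Finite.injective_iff_surjective.1 h⟩), fun x y => X_injective hij ?_, hX⟩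
    rw [X_add hij, ← hX, ← hX, ← hX, X_add hij, map_mul]
  rcases eq_or_lt_of_le hn with rfl | hn3
  · obtain ⟨D⟩ := exists_data (α * 1)
    have hpp : ∀ {v φ ψ : Fin 2 → F}, v ≠ 0 → φ ≠ 0 → ψ ⬝ᵥ v = 0 → φ ⬝ᵥ v = 0 → ∃ s : F, ψ = s • φ := by
      intro v φ ψ hv hφ h h'
      simp only [dotProduct, Fin.sum_univ_two] at h h'
      rcases eq_or_ne (v 1) 0 with h1 | h1
      · have h0 : v 0 ≠ 0 := fun h0 => hv (funext fun i => by fin_cases i <;> simp [h0, h1])
        simp [h1, h0] at h h'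
        have : φ 1 ≠ 0 := fun h2 => hφ (funext fun i => by fin_cases i <;> simp [h2, h'])
        exact ⟨ψ 1 / φ 1, funext fun i => by fin_cases i <;> simp [h, h', this]⟩
      · have : φ 0 ≠ 0 := fun h2 => hφ (funext fun i => by fin_cases i <;> simp_all)
        refine ⟨ψ 0 / φ 0, funext fun i => ?_⟩
        fin_cases i
        · simp [this]
        · simp
          field_simp
          refine mul_left_cancel₀ h1 ?_
          linear_combination φ 0 * h - ψ 0 * h'
    let v : Fin 2 → Fin 2 → F := ![D.V 0 1, D.V 1 0]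
    let φ : Fin 2 → Fin 2 → F := ![D.Φ 1 0, D.Φ 0 1]
    have h01 : (0 : Fin 2) ≠ 1 := zero_ne_one
    have h10 : (1 : Fin 2) ≠ 0 := one_ne_zero
    have hboth : D.Φ 0 1 ⬝ᵥ D.V 1 0 ≠ 0 ∧ D.Φ 1 0 ⬝ᵥ D.V 0 1 ≠ 0 := by
      have key : ∀ i j : Fin 2, i ≠ j → D.Φ i j ⬝ᵥ D.V j i = 0 → D.Φ j i ⬝ᵥ D.V i j = 0 := by
        intro i j hij h
        obtain ⟨s, hs⟩ := hpp (D.Φ0 i j hij) (D.V0 j i hij.symm)
          (by rw [dotProduct_comm]; exact D.dot i j hij) (by rw [dotProduct_comm]; exact h)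
        rw [hs]
        exact dot_smul_zero (D.dot j i hij.symm) _
      rcases D.not_both_dot h01 h10 with h | h
      · exact ⟨h, fun h' => h (key 1 0 h10 h')⟩
      · exact ⟨fun h' => h (key 0 1 h01 h'), h⟩
    refine ⟨1, D, v, φ, Or.inl rfl, ?_, ?_, ?_⟩
    · intro i; fin_cases i
      · exact hboth.2
      · exact hboth.1
    · intro i j hij
      fin_cases i <;> fin_cases j
      · exact absurd rfl hij
      · exact D.dot 0 1 h01
      · exact D.dot 1 0 h10
      · exact absurd rfl hij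
    · intro i j hij
      fin_cases i <;> fin_cases j
      · exact absurd rfl hij
      · exact ⟨Par.refl _, Par.refl _⟩
      · exact ⟨Par.refl _, Par.refl _⟩
      · exact absurd rfl hij
  · suffices H : ∃ (e : MulAut PSLn) (D : Data (α * e)), (e = 1 ∨ e = it ∧ 3 ≤ n) ∧ D.PointType by
      obtain ⟨e, D, he, hV, hΦ⟩ := H
      choose o ho ho' using fun i : Fin n => third hn3 i i
      refine ⟨e, D, fun i => D.V i (o i), fun j => D.Φ (o j) j, he, ?_, ?_, fun i j hij =>
        ⟨hV i j (o i) hij (ho i).symm, hΦ j i (o j) hij (ho j)⟩⟩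
      · intro j h0
        obtain ⟨k, hk, hk'⟩ := third hn3 (o j) j
        obtain ⟨a, -, ha⟩ := hV j k (o j) hk'.symm (ho j).symm
        obtain ⟨b, -, hb⟩ := hΦ k (o j) j hk.symm hk'.symm
        rcases D.not_both_dot (ho j) hk'.symm with h | h
        · exact h (by rw [ha]; exact dot_smul_zero h0 _)
        · obtain ⟨a', -, ha''⟩ := hV (o j) j k (ho j) hk.symm
          exact h (by rw [ha'', dotProduct_smul, ← smul_zero a']; congr 1
                      obtain ⟨b', -, hb''⟩ := hΦ k j (o j) hk'.symm hk.symm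
                      rw [hb'', smul_dotProduct, D.dot _ _ hk.symm, smul_zero])
      · intro i j hij
        obtain ⟨a, ha0, ha⟩ := hV i j (o i) hij (ho i).symm
        obtain ⟨b, hb0, hb⟩ := hΦ j i (o j) hij (ho j)
        have := D.dot i j hij
        rw [ha, hb, dotProduct_smul, smul_dotProduct, smul_eq_zero, smul_eq_zero] at this
        exact (this.resolve_left ha0).resolve_left hb0
    obtain ⟨D⟩ := exists_data (α * 1)
    rcases D.pointType_or hn3 with h | h
    · exact ⟨1, D, Or.inl rfl, h⟩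
    · obtain ⟨D'⟩ : ∃ D' : Data (α * it), D'.PointType := by
        have e : α * 1 * it = α * it := by rw [mul_one]
        exact e ▸ ⟨D.flip, h⟩
      exact ⟨it, D', Or.inr ⟨rfl, hn3⟩, by assumption⟩

end CfsgLib.KnownB.PSLAut
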