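import Cfsg.Agent.Lib.KnownB.PSLAut.Basic
import Cfsg.Agent.Lib.Classical.SLGen

/-!
Transvections in `SL_n` and their classes in `PSL_n`.
-/

set_option autoImplicit false

namespace CfsgLib.KnownB.PSLAut

open Matrix

variable {n : ℕ} {F : Type*} [Field F]

local notation "SLn" => Matrix.SpecialLinearGroup (Fin n) F
local notation "PSLn" => Matrix.ProjectiveSpecialLinearGroup (Fin n) F
local notation "Mn" => Matrix (Fin n) (Fin n) F
local notation "Vn" => (Fin n → F)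

/-- The transvection `x ↦ x + (φ ⬝ x) v` in `SL` (the identity unless `φ ⬝ v = 0`). -/
noncomputable def tv (v φ : Vn) : SLn :=
  letI := Classical.dec (φ ⬝ᵥ v = 0)
  if h : φ ⬝ᵥ v = 0 then
    ⟨1 + vecMulVec v φ, by
      rw [Matrix.vecMulVec_eq Unit, Matrix.det_one_add_replicateCol_mul_replicateRow, h, add_zero]⟩
  else 1

theorem tv_val {v φ : Vn} (h : φ ⬝ᵥ v = 0) : ((tv v φ : SLn) : Mn) = 1 + vecMulVec v φ := by
  simp [tv, h]

theorem vmv_mul_self {v φ : Vn} (h : φ ⬝ᵥ v = 0) : vecMulVec v φ * vecMulVec v φ = 0 := by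
  simp [vecMulVec_mul_vecMulVec, h]

theorem vmv_eq_zero {v φ : Vn} : vecMulVec v φ = 0 ↔ v = 0 ∨ φ = 0 := by
  constructor
  · intro h
    by_contra hc
    push Not at hc
    obtain ⟨a, ha⟩ := Function.ne_iff.1 hc.1
    obtain ⟨b, hb⟩ := Function.ne_iff.1 hc.2
    exact mul_ne_zero ha hb (congrFun (congrFun h a) b)
  · rintro (rfl | rfl) <;> simp

theorem tv_mul_left {v w φ : Vn} (hv : φ ⬝ᵥ v = 0) (hw : φ ⬝ᵥ w = 0) :
    tv v φ * tv w φ = tv (v + w) φ := by
  have h : φ ⬝ᵥ (v + w) = 0 := by rw [dotProduct_add, hv, hw, add_zero]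
  refine Subtype.ext ?_
  rw [Matrix.SpecialLinearGroup.coe_mul, tv_val hv, tv_val hw, tv_val h, mul_add, mul_one, add_mul, one_mul,
    vecMulVec_mul_vecMulVec, hw, zero_smul, Matrix.vecMulVec_zero, add_zero, Matrix.add_vecMulVec]
  abel

theorem tv_inv {v φ : Vn} (h : φ ⬝ᵥ v = 0) : (tv v φ)⁻¹ = tv (-v) φ := by
  refine inv_eq_of_mul_eq_one_right ?_
  rw [tv_mul_left h (by rw [dotProduct_neg, h, neg_zero]), add_neg_cancel]
  refine Subtype.ext ?_
  rw [tv_val (dotProduct_zero φ)]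
  simp

theorem conjSL_tv (g : GL (Fin n) F) {v φ : Vn} (h : φ ⬝ᵥ v = 0) :
    conjSL g (tv v φ) = tv ((g : Mn) *ᵥ v) (φ ᵥ* ((g⁻¹ : GL (Fin n) F) : Mn)) ∧
      (φ ᵥ* ((g⁻¹ : GL (Fin n) F) : Mn)) ⬝ᵥ ((g : Mn) *ᵥ v) = 0 := by
  have h' : (φ ᵥ* ((g⁻¹ : GL (Fin n) F) : Mn)) ⬝ᵥ ((g : Mn) *ᵥ v) = 0 := by
    rw [← Matrix.dotProduct_mulVec, Matrix.mulVec_mulVec, Units.inv_mul, Matrix.one_mulVec, h]
  refine ⟨Subtype.ext ?_, h'⟩
  rw [conjSL_coe, tv_val h, tv_val h', mul_add, mul_one, add_mul, Units.mul_inv, Matrix.mul_vecMulVec,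
    Matrix.vecMulVec_mul]

theorem fieldSL_tv (σ : F ≃+* F) {v φ : Vn} (h : φ ⬝ᵥ v = 0) :
    fieldSL σ (tv v φ) = tv (fun i => σ (v i)) (fun i => σ (φ i)) := by
  have h' : (fun i => σ (φ i)) ⬝ᵥ (fun i => σ (v i)) = 0 := by
    simpa [dotProduct, map_sum] using congrArg σ h
  refine Subtype.ext ?_
  rw [fieldSL_coe, tv_val h, tv_val h']
  ext a b
  rcases eq_or_ne a b with rfl | hab <;> simp [vecMulVec_apply, *]

theorem itSL_tv {v φ : Vn} (h : φ ⬝ᵥ v = 0) : itSL (tv v φ) = tv (-φ) v := by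
  refine Subtype.ext ?_
  rw [itSL_apply, tv_inv h, Matrix.SpecialLinearGroup.coe_transpose, tv_val (by rw [dotProduct_neg, h, neg_zero]),
    tv_val (by rw [dotProduct_neg, dotProduct_comm, h, neg_zero]), Matrix.transpose_add, Matrix.transpose_one]
  congr 1
  ext a b
  simp [vecMulVec_apply, mul_comm]

theorem scalar_rigid [NeZero n] {N M : Mn} (hN : N * N = 0) (hM : M * M = 0) {r : F}
    (h : 1 + N = r • (1 + M)) : r = 1 ∧ N = M := by
  have hN' : N = (r - 1) • (1 : Mn) + r • M := by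
    rw [smul_add] at h
    rw [sub_smul, one_smul, sub_add_eq_add_sub, ← h]
    abel
  have h1 : ((r - 1) ^ 2) • (1 : Mn) + (2 * r * (r - 1)) • M = 0 := by
    rw [← hN, hN']
    simp only [add_mul, mul_add, smul_mul_assoc, mul_smul_comm, one_mul, mul_one, smul_smul, hM, smul_zero, add_zero]
    rw [show 2 * r * (r - 1) = r * (r - 1) + (r - 1) * r by ring, add_smul, sq]
    module
  have h2 : ((r - 1) ^ 2) • M = 0 := by
    have := congrArg (· * M) h1
    simpa [add_mul, hM] using this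
  rcases eq_or_ne r 1 with rfl | hr
  · exact ⟨rfl, by simpa using hN'⟩
  · have hM0 : M = 0 := (smul_eq_zero.1 h2).resolve_left (pow_ne_zero _ (sub_ne_zero.2 hr))
    rw [hM0, smul_zero, add_zero] at h1
    have := congrFun (congrFun h1 0) 0
    simp [sub_eq_zero] at this
    exact absurd this hr

theorem mk_tv_eq_iff [NeZero n] {v φ w ψ : Vn} (h : φ ⬝ᵥ v = 0) (h' : ψ ⬝ᵥ w = 0) :
    (QuotientGroup.mk (tv v φ) : PSLn) = QuotientGroup.mk (tv w ψ) ↔ vecMulVec v φ = vecMulVec w ψ := by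
  constructor
  · intro he
    rw [QuotientGroup.eq] at he
    obtain ⟨r, -, hr⟩ := Matrix.SpecialLinearGroup.mem_center_iff.1 he
    have h3 : ((tv w ψ : SLn) : Mn) = r • ((tv v φ : SLn) : Mn) := by
      have h4 : (tv w ψ : SLn) = tv v φ * ((tv v φ)⁻¹ * tv w ψ) := (mul_inv_cancel_left _ _).symm
      rw [h4, Matrix.SpecialLinearGroup.coe_mul, ← hr, Matrix.scalar_apply, ← Matrix.smul_one_eq_diagonal,
        mul_smul_comm, mul_one]
    rw [tv_val h, tv_val h'] at h3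
    exact (scalar_rigid (vmv_mul_self h') (vmv_mul_self h) h3).2.symm
  · intro he
    refine congrArg _ (Subtype.ext ?_)
    rw [tv_val h, tv_val h', he]

theorem conj_mk (t : SLn) (x : SLn) :
    (QuotientGroup.mk t : PSLn) * QuotientGroup.mk x * (QuotientGroup.mk t)⁻¹ =
      QuotientGroup.mk (conjSL (Matrix.SpecialLinearGroup.toGL t) x) := by
  rw [← QuotientGroup.mk_inv, ← QuotientGroup.mk_mul, ← QuotientGroup.mk_mul]
  refine congrArg _ (Subtype.ext ?_)
  rw [conjSL_coe, Matrix.SpecialLinearGroup.coe_mul, Matrix.SpecialLinearGroup.coe_mul, inv_coe_GL]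
  rfl

/-- Classes of transvections commute in `PSL` iff the transvections commute. -/
theorem commute_mk_tv_iff [NeZero n] {v φ w ψ : Vn} (h : φ ⬝ᵥ v = 0) (h' : ψ ⬝ᵥ w = 0) :
    Commute (QuotientGroup.mk (tv v φ) : PSLn) (QuotientGroup.mk (tv w ψ)) ↔
      (φ ⬝ᵥ w) • vecMulVec v ψ = (ψ ⬝ᵥ v) • vecMulVec w φ := by
  have hc : Commute (tv v φ) (tv w ψ) ↔ (φ ⬝ᵥ w) • vecMulVec v ψ = (ψ ⬝ᵥ v) • vecMulVec w φ := by
    rw [commute_iff_eq]
    refine Iff.trans Subtype.ext_iff ?_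
    rw [Matrix.SpecialLinearGroup.coe_mul, Matrix.SpecialLinearGroup.coe_mul,
      tv_val h, tv_val h']
    simp only [mul_add, add_mul, mul_one, one_mul, vecMulVec_mul_vecMulVec, Matrix.vecMulVec_smul]
    constructor
    · intro e
      have e2 := sub_eq_zero.2 e
      rw [← sub_eq_zero, ← e2]
      abel
    · intro e
      rw [e]
      abel
  rw [← hc]
  constructor
  · intro e
    obtain ⟨e1, h1⟩ := conjSL_tv (Matrix.SpecialLinearGroup.toGL (tv w ψ)) h
    have e2 : (QuotientGroup.mk (conjSL (Matrix.SpecialLinearGroup.toGL (tv w ψ)) (tv v φ)) : PSLn) =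
        QuotientGroup.mk (tv v φ) := by
      rw [← conj_mk]
      exact mul_inv_eq_iff_eq_mul.2 e.eq.symm
    rw [e1, mk_tv_eq_iff h1 h] at e2
    have e3 : conjSL (Matrix.SpecialLinearGroup.toGL (tv w ψ)) (tv v φ) = tv v φ := by
      rw [e1]
      refine Subtype.ext ?_
      rw [tv_val h1, tv_val h, e2]
    have e4 : tv w ψ * tv v φ * (tv w ψ)⁻¹ = tv v φ := by
      refine Subtype.ext (Eq.trans ?_ (congrArg Subtype.val e3))
      rw [Matrix.SpecialLinearGroup.coe_mul, Matrix.SpecialLinearGroup.coe_mul, inv_coe_GL]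
      rfl
    exact (mul_inv_eq_iff_eq_mul.1 e4).symm
  · intro e
    exact e.map (QuotientGroup.mk' _)

/-- Two nonzero rank-one maps whose sum has rank at most one share a line or a hyperplane. -/
theorem vmv_add_rank_one {v φ w ψ u χ : Vn} (hψ : ψ ≠ 0) (hw : w ≠ 0)
    (h : vecMulVec v φ + vecMulVec w ψ = vecMulVec u χ) :
    (∃ c : F, v = c • w) ∨ ∃ c : F, φ = c • ψ := by
  by_contra hcon
  push Not at hcon
  obtain ⟨hvw, hφψ⟩ := hcon
  obtain ⟨j, hj⟩ := Function.ne_iff.1 hψ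
  obtain ⟨k, hk⟩ := Function.ne_iff.1 (hφψ (φ j / ψ j))
  set x : Vn := Pi.single k 1 - (ψ k / ψ j) • Pi.single j 1 with hx
  have hψx : ψ ⬝ᵥ x = 0 := by
    simp only [Pi.zero_apply] at hj
    simp [hx, dotProduct_sub]; field_simp; ring
  have hφx : φ ⬝ᵥ x ≠ 0 := by
    simp only [Pi.zero_apply] at hj
    simp [hx, dotProduct_sub, dotProduct_smul]
    intro h0
    refine hk ?_
    simp only [Pi.smul_apply, smul_eq_mul]
    field_simp at h0 ⊢
    linear_combination h0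
  have hvu : ∀ y : Vn, (φ ⬝ᵥ y) • v + (ψ ⬝ᵥ y) • w = (χ ⬝ᵥ y) • u := fun y => by
    simpa [Matrix.add_mulVec, Matrix.vecMulVec_mulVec] using congrArg (· *ᵥ y) h
  have hv : v = ((χ ⬝ᵥ x) / (φ ⬝ᵥ x)) • u := by
    have := hvu x
    rw [hψx, zero_smul, add_zero] at this
    rw [div_eq_inv_mul, mul_smul, ← this, inv_smul_smul₀ hφx]
  have := hvu (Pi.single j 1)
  simp only [dotProduct_single_one] at this
  rw [hv, smul_smul] at this
  have hw' : w = ((χ ⬝ᵥ Pi.single j 1 - φ j * ((χ ⬝ᵥ x) / (φ ⬝ᵥ x))) / ψ j) • u := by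
    simp only [Pi.zero_apply] at hj
    rw [div_eq_inv_mul, mul_smul, sub_smul, dotProduct_single_one, ← this, add_sub_cancel_left, inv_smul_smul₀ hj]
  set a := (χ ⬝ᵥ x) / (φ ⬝ᵥ x)
  set b := (χ ⬝ᵥ Pi.single j 1 - φ j * a) / ψ j
  rcases eq_or_ne b 0 with hb | hb
  · exact hw (by rw [hw', hb, zero_smul])
  · refine hvw (a / b) ?_
    rw [hv, hw', smul_smul, div_mul_cancel₀ _ hb]

theorem vmv_eq_iff {v φ w ψ : Vn} (hv : v ≠ 0) (hφ : φ ≠ 0) (h : vecMulVec v φ = vecMulVec w ψ) :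
    ∃ c : F, c ≠ 0 ∧ w = c • v ∧ ψ = c⁻¹ • φ := by
  obtain ⟨a, ha⟩ := Function.ne_iff.1 hv
  obtain ⟨b, hb⟩ := Function.ne_iff.1 hφ
  simp only [Pi.zero_apply] at ha hb
  have hent : ∀ i j, v i * φ j = w i * ψ j := fun i j => congrFun (congrFun h i) j
  have hb' : ψ b ≠ 0 := fun h0 => mul_ne_zero ha hb (by rw [hent, h0, mul_zero])
  have hc : φ b / ψ b ≠ 0 := div_ne_zero hb hb'
  refine ⟨φ b / ψ b, hc, funext fun i => ?_, funext fun j => ?_⟩
  · simp only [Pi.smul_apply, smul_eq_mul]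
    field_simp
    linear_combination -hent i b
  · simp only [Pi.smul_apply, smul_eq_mul, inv_div]
    have h1 := hent a j
    have h2 := hent a b
    have hw : w a ≠ 0 := fun h0 => mul_ne_zero ha hb (by rw [hent, h0, zero_mul])
    field_simp
    refine mul_left_cancel₀ (mul_ne_zero ha hw) ?_
    linear_combination (w a * ψ j) * h2 - (w a * ψ b) * h1

/-- The root element `x_ij(c)` in `PSL`. -/
noncomputable def X (i j : Fin n) (c : F) : PSLn :=
  QuotientGroup.mk (tv (Pi.single i c) (Pi.single j 1))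

theorem X_dot {i j : Fin n} (h : i ≠ j) (c : F) : (Pi.single j (1 : F)) ⬝ᵥ (Pi.single i c) = 0 := by
  simp [h]

theorem X_eq_transvection {i j : Fin n} (h : i ≠ j) (c : F) :
    (X i j c : PSLn) = QuotientGroup.mk (Matrix.SpecialLinearGroup.transvection h c) := by
  refine congrArg _ (Subtype.ext ?_)
  rw [tv_val (X_dot h c), Matrix.SpecialLinearGroup.transvection_coe]
  congr 1
  ext a b
  simp [vecMulVec_apply, Matrix.single_apply, Pi.single_apply]
  grind

theorem X_injective [NeZero n] {i j : Fin n} (h : i ≠ j) : Function.Injective (X i j : F → PSLn) := by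
  intro a b hab
  rw [X, X, mk_tv_eq_iff (X_dot h a) (X_dot h b)] at hab
  simpa [vecMulVec_apply] using congrFun (congrFun hab i) j

theorem X_add {i j : Fin n} (h : i ≠ j) (a b : F) : (X i j (a + b) : PSLn) = X i j a * X i j b := by
  rw [X, X, X, ← QuotientGroup.mk_mul, tv_mul_left (X_dot h a) (X_dot h b), Pi.single_add]

theorem it_X {i j : Fin n} (h : i ≠ j) (c : F) : it (X i j c : PSLn) = X j i (-c) := by
  rw [X, it_mk, itSL_tv (X_dot h c)]
  refine congrArg _ (Subtype.ext ?_)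
  rw [tv_val (by simp [h]), tv_val (X_dot h.symm _)]
  congr 1
  ext a b
  simp [vecMulVec_apply, Pi.single_apply]
  grind

theorem fld_X (σ : F ≃+* F) {i j : Fin n} (h : i ≠ j) (c : F) : fld σ (X i j c : PSLn) = X i j (σ c) := by
  rw [X, fld_mk, fieldSL_tv σ (X_dot h c), X]
  congr 2 <;> funext a <;> simp [Pi.single_apply, apply_ite σ]

theorem hom_ext_X {M : Type*} [Monoid M] {f g : PSLn →* M}
    (h : ∀ (i j : Fin n) (_ : i ≠ j) (c : F), f (X i j c) = g (X i j c)) : f = g := by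
  refine QuotientGroup.monoidHom_ext _ (CfsgLib.Classical.hom_ext_transvection fun i j hij c => ?_)
  have := h i j hij c
  rw [X_eq_transvection hij] at this
  exact this

theorem aut_ext_X {β γ : MulAut PSLn}
    (h : ∀ (i j : Fin n) (_ : i ≠ j) (c : F), β (X i j c) = γ (X i j c)) : β = γ := by
  refine MulEquiv.ext fun x => ?_
  exact DFunLike.congr_fun (hom_ext_X (f := β.toMonoidHom) (g := γ.toMonoidHom) h) x

end CfsgLib.KnownB.PSLAut
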